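import Cfsg.Agent.EqLemmas
import Cfsg.Agent.Lib.BlocksNormal.SylowIntersection

/-!
# Blocks of defect zero or full defect: group-theoretic criteria

* `Crit p G` : families of tame radical intersections consist of `⊥` and Sylow subgroups;
* `dichotomy` : then every block has defect zero or full defect;
* `crit_of_radCent`, `crit_of_ti`, `crit_of_equiv` : sufficient conditions;
* `radCent_of_equiv`, `radCent_quotient` : transfer of the centraliser condition.
-/

set_option autoImplicit false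
set_option linter.unusedSectionVars false

namespace Cfsg.Agent.DefectChar

open Cfsg Cfsg.Agent.Blocks

variable {G : Type*} [Group G] {p : ℕ}

/-- The largest normal `p`-subgroup of the normaliser of `D` is in `D`. -/
def Rad (p : ℕ) (D : Subgroup G) : Prop :=
  ∀ Q : Subgroup G, IsPGroup p ↥Q → Q ≤ Subgroup.normalizer (D : Set G) →
    (∀ n ∈ Subgroup.normalizer (D : Set G), ∀ v ∈ Q, n * v * n⁻¹ ∈ Q) → Q ≤ D

/-- A family with the properties of the defect groups of a block. -/
structure Fam (p : ℕ) (Def : Subgroup G → Prop) : Prop where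
  conj : ∀ D, Def D → ∀ g, Def (conjSub g D)
  isP : ∀ D, Def D → IsPGroup p ↥D
  rad : ∀ D, Def D → Rad p D
  inter : ∀ D, Def D → ∀ P : Sylow p G, D ≤ (P : Subgroup G) →
    ∃ x : G, ¬ p ∣ orderOf x ∧ (∀ z ∈ D, x * z = z * x) ∧
      ∀ z, z ∈ D ↔ z ∈ (P : Subgroup G) ∧ x⁻¹ * z * x ∈ (P : Subgroup G)

/-- Such families consist of trivial and Sylow subgroups. -/
def Crit (p : ℕ) (G : Type*) [Group G] : Prop :=
  ∀ Def : Subgroup G → Prop, Fam p Def → ∀ D, Def D →
    D = ⊥ ∨ Nat.card ↥D = p ^ (Nat.card G).factorization p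

/-- Radical non-trivial `p`-subgroups are centralised by central `p`-regular elements only. -/
def RadCent (p : ℕ) (G : Type*) [Group G] : Prop :=
  ∀ D : Subgroup G, IsPGroup p ↥D → D ≠ ⊥ → Rad p D →
    ∀ x : G, ¬ p ∣ orderOf x → (∀ z ∈ D, x * z = z * x) → x ∈ Subgroup.center G

theorem dichotomy [Finite G] [Fact p.Prime] (h : Crit p G) {M : Ideal AlgInt} (hM : IsPModular p M)
    {B : Set (IrrCharacter G)} (hB : IsPBlock M B) :
    blockDefect p B = 0 ∨ blockDefect p B = (Nat.card G).factorization p := by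
  haveI : Fintype G := Fintype.ofFinite G
  have hfam : Fam p (IsDefectGroup p M B) := by
    refine ⟨fun D hD g => isDefectGroup_conjSub hM hD g, fun D hD => isPGroup_defectGroup hM hD,
      fun D hD Q hQ hle hconj => ?_, fun D hD P hP => ?_⟩
    · obtain ⟨b, hb, hbD, -⟩ := first_main_exists hM (isPGroup_defectGroup hM hD) hB hD
      set N := Subgroup.normalizer (D : Set G)
      haveI : (Q.subgroupOf N).Normal := ⟨fun v hv n => hconj n n.2 v hv⟩
      have h1 := normal_le_defectGroup hM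
        (hQ.of_equiv (Subgroup.subgroupOfEquivOfLe hle).symm) hb hbD
      exact fun v hv => h1 (show (⟨v, hle hv⟩ : N) ∈ Q.subgroupOf N from hv)
    · obtain ⟨x, hx, hxD, hPx⟩ := BlocksNormal.defectGroup_eq_inter hM hB hD P hP
      refine ⟨x, hx, fun z hz => (Subgroup.mem_centralizer_iff.1 (sylowIn_le hxD hz) x rfl), fun z => ?_⟩
      rw [← hPx, Subgroup.mem_inf, mem_conjSub]
  obtain ⟨D, hD⟩ := exists_isDefectGroup hM hB
  have hc := card_defectGroup hM hB hD
  rcases h _ hfam D hD with e | e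
  · left
    rw [e, Subgroup.card_bot] at hc
    by_contra h0
    exact (Nat.one_lt_pow h0 (Fact.out : p.Prime).one_lt).ne hc
  · right
    rw [e] at hc
    exact (Nat.pow_right_injective (Fact.out : p.Prime).two_le hc).symm

theorem crit_of_radCent [Finite G] [Fact p.Prime] (h : RadCent p G) : Crit p G := by
  intro Def hF D hD
  refine or_iff_not_imp_left.2 fun hne => ?_
  obtain ⟨P, hP⟩ := (hF.isP D hD).exists_le_sylow
  obtain ⟨x, hx, hxD, hmem⟩ := hF.inter D hD P hP
  have hxc := h D (hF.isP D hD) hne (hF.rad D hD) x hx hxD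
  have e : D = (P : Subgroup G) := le_antisymm hP fun z hz => (hmem z).2 ⟨hz, by
    rw [mul_assoc, Subgroup.mem_center_iff.1 hxc z, inv_mul_cancel_left]
    exact hz⟩
  rw [e]
  exact P.card_eq_multiplicity

theorem crit_of_ti [Finite G] [Fact p.Prime]
    (h : ∀ P Q : Sylow p G, P ≠ Q → (P : Subgroup G) ⊓ (Q : Subgroup G) = ⊥) : Crit p G := by
  intro Def hF D hD
  refine or_iff_not_imp_left.2 fun hne => ?_
  obtain ⟨P, hP⟩ := (hF.isP D hD).exists_le_sylow
  obtain ⟨x, hx, hxD, hmem⟩ := hF.inter D hD P hP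
  by_cases hPx : x • P = P
  · have e : D = (P : Subgroup G) := le_antisymm hP fun z hz => (hmem z).2 ⟨hz, by
      have h1 := (Subgroup.mem_normalizer_iff.1
        (inv_mem (Sylow.smul_eq_iff_mem_normalizer.1 hPx)) z).1 hz
      simpa using h1⟩
    rw [e]
    exact P.card_eq_multiplicity
  · exfalso
    refine hne (eq_bot_iff.2 fun z hz => ?_)
    rw [← h _ _ (Ne.symm hPx), Subgroup.mem_inf]
    refine ⟨hP hz, ?_⟩
    rw [Sylow.coe_subgroup_smul, Subgroup.mem_pointwise_smul_iff_inv_smul_mem]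
    simpa using ((hmem z).1 hz).2

theorem rad_map {H : Type*} [Group H] (e : G ≃* H) {D : Subgroup G} (h : Rad p D) :
    Rad p (D.map e.toMonoidHom) := by
  intro Q hQ hle hconj
  have hN : Subgroup.normalizer (D.map e.toMonoidHom : Set H) =
      (Subgroup.normalizer (D : Set G)).map e.toMonoidHom := by
    rw [Subgroup.map_equiv_normalizer_eq D e]
  have hmap : Q.comap e.toMonoidHom ≤ D := by
    refine h _ ?_ ?_ ?_
    · exact hQ.comap_of_injective _ e.injective
    · intro v hv
      have h1 := hle hv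
      rw [hN] at h1
      obtain ⟨w, hw, ew⟩ := h1
      exact e.injective ew ▸ hw
    · intro n hn v hv
      have h1 := hconj (e n) (hN.ge ⟨n, hn, rfl⟩) (e v) hv
      simpa using h1
  intro v hv
  exact ⟨e.symm v, hmap (by simpa using hv), by simp⟩

theorem crit_of_equiv {H : Type*} [Group H] [Finite H] [Fact p.Prime] (e : G ≃* H) (h : Crit p H) :
    Crit p G := by
  intro Def hF D hD
  haveI : Finite G := Finite.of_equiv _ e.toEquiv.symm
  have hF' : Fam p fun E : Subgroup H => Def (E.map e.symm.toMonoidHom) := by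
    have hback : ∀ E : Subgroup H, (E.map e.symm.toMonoidHom).map e.toMonoidHom = E := fun E => by
      ext z; simp
    refine ⟨fun E hE g => ?_, fun E hE => ?_, fun E hE => ?_, fun E hE P hP => ?_⟩
    · have e' : (conjSub g E).map e.symm.toMonoidHom = conjSub (e.symm g) (E.map e.symm.toMonoidHom) := by
        rw [conjSub, conjSub, Subgroup.map_map, Subgroup.map_map]
        congr 1
        ext z; simp
      show Def _
      rw [e']
      exact hF.conj _ hE _
    · exact (hback E) ▸ (hF.isP _ hE).map e.toMonoidHom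
    · exact (hback E) ▸ rad_map e (hF.rad _ hE)
    · let P' : Sylow p G := P.comapOfInjective e.toMonoidHom e.injective (fun z _ => ⟨e.symm z, e.apply_symm_apply z⟩)
      obtain ⟨x, hx, hxE, hmem⟩ := hF.inter _ hE P' (by
        rintro _ ⟨z, hz, rfl⟩
        show e.toMonoidHom (e.symm z) ∈ (P : Subgroup H)
        simpa using hP hz)
      refine ⟨e x, by rwa [MulEquiv.orderOf_eq], fun z hz => ?_, fun z => ?_⟩
      · have := congrArg e (hxE (e.symm z) ⟨z, hz, rfl⟩)
        simpa using this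
      · have h1 := hmem (e.symm z)
        rw [show e.symm z ∈ E.map e.symm.toMonoidHom ↔ z ∈ E by simp] at h1
        rw [h1]
        show e.toMonoidHom (e.symm z) ∈ (P : Subgroup H) ∧ e.toMonoidHom (x⁻¹ * e.symm z * x) ∈ (P : Subgroup H) ↔ _
        simp
  have hD' : Def ((D.map e.toMonoidHom).map e.symm.toMonoidHom) := by
    rwa [show (D.map e.toMonoidHom).map e.symm.toMonoidHom = D by ext z; simp]
  rcases h _ hF' _ hD' with h1 | h1
  · exact Or.inl ((Subgroup.map_eq_bot_iff_of_injective _ e.injective).1 h1)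
  · rw [Subgroup.card_map_of_injective e.injective, ← Nat.card_congr e.toEquiv] at h1
    exact Or.inr h1

theorem radCent_of_equiv {H : Type*} [Group H] (e : G ≃* H) (h : RadCent p H) : RadCent p G := by
  intro D hD hne hrad x hx hxD
  have hc := h (D.map e.toMonoidHom) (hD.map _)
    (fun h0 => hne ((Subgroup.map_eq_bot_iff_of_injective _ e.injective).1 h0)) (rad_map e hrad) (e x)
    (by rwa [MulEquiv.orderOf_eq]) (by
      rintro _ ⟨z, hz, rfl⟩
      simp [← map_mul, hxD z hz])
  exact Subgroup.mem_center_iff.2 fun g => e.injective (by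
    rw [map_mul, map_mul]
    exact Subgroup.mem_center_iff.1 hc (e g))

/-- The condition passes to the quotient by a centre of order prime to `p`. -/
theorem radCent_quotient [Finite G] [Fact p.Prime] (hZ : ¬ p ∣ Nat.card (Subgroup.center G))
    (h : RadCent p G) : RadCent p (G ⧸ Subgroup.center G) := by
  intro D hD hne hrad x hx hxD
  obtain ⟨x₀, rfl⟩ := QuotientGroup.mk'_surjective _ x
  set Z := Subgroup.center G
  set f := QuotientGroup.mk' Z
  have hfs : Function.Surjective f := QuotientGroup.mk'_surjective _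
  set E := D.comap f with hE
  obtain ⟨P⟩ := (inferInstance : Nonempty (Sylow p ↥E))
  set Q : Subgroup G := (P : Subgroup ↥E).map E.subtype with hQdef
  have hQp : IsPGroup p ↥Q := P.isPGroup'.map _
  have hQle : Q ≤ E := Subgroup.map_subtype_le _
  have hfix : ∀ z : G, z ∈ Q → z ∈ Z → z = 1 := fun z hz hzZ => by
    by_contra h1
    obtain ⟨k, hk⟩ := IsPGroup.iff_orderOf.1 hQp ⟨z, hz⟩
    rw [Subgroup.orderOf_mk] at hk
    rcases Nat.eq_zero_or_pos k with rfl | hk0
    · exact h1 (orderOf_eq_one_iff.1 (by rw [hk, pow_zero]))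
    · exact hZ ((dvd_pow_self p hk0.ne').trans (hk ▸ Subgroup.orderOf_dvd_natCard Z hzZ))
  have hQD : ∀ d ∈ D, ∃ q ∈ Q, f q = d := by
    intro d hd
    let φ : ↥E →* ↥D := f.subgroupComap D
    have hφ : Function.Surjective φ := f.subgroupComap_surjective_of_surjective D hfs
    have htop : ((P.mapSurjective hφ : Sylow p ↥D) : Subgroup ↥D) = ⊤ :=
      ((P.mapSurjective hφ).is_maximal' (hD.to_subgroup ⊤) le_top).symm
    have h2 : (⟨d, hd⟩ : ↥D) ∈ (P : Subgroup ↥E).map φ := by
      rw [← Sylow.coe_mapSurjective hφ, htop]; trivial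
    obtain ⟨q, hq, e⟩ := h2
    exact ⟨q, ⟨q, hq, rfl⟩, congrArg Subtype.val e⟩
  have hdec : ∀ e ∈ E, ∃ q ∈ Q, ∃ c ∈ Z, e = q * c := by
    intro e he
    obtain ⟨q, hq, eq⟩ := hQD _ (Subgroup.mem_comap.1 he)
    exact ⟨q, hq, q⁻¹ * e, QuotientGroup.eq.1 eq, by group⟩
  -- the p-elements of the preimage
  have hpel : ∀ e ∈ E, (∃ k, e ^ p ^ k = 1) → e ∈ Q := by
    intro e he ⟨k, hk⟩
    obtain ⟨q, hq, c, hc, rfl⟩ := hdec e he
    obtain ⟨l, hl⟩ := hQp ⟨q, hq⟩
    have hl' : q ^ p ^ l = 1 := congrArg Subtype.val hl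
    have hcomm : Commute q c := Subgroup.mem_center_iff.1 hc q
    have hc1 : c ^ p ^ (k + l) = 1 := by
      have h1 : (q * c) ^ p ^ (k + l) = 1 := by rw [pow_add, pow_mul, hk, one_pow]
      rwa [hcomm.mul_pow, pow_add p k l, mul_comm (p ^ k), pow_mul q, hl', one_pow, one_mul, mul_comm (p ^ l),
        ← pow_add] at h1
    obtain ⟨m, hm, hm'⟩ := (Nat.dvd_prime_pow (Fact.out : p.Prime)).1 (orderOf_dvd_of_pow_eq_one hc1)
    rcases Nat.eq_zero_or_pos m with rfl | hm0
    · rw [pow_zero, orderOf_eq_one_iff] at hm'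
      rwa [hm', mul_one]
    · exact absurd ((dvd_pow_self p hm0.ne').trans (hm' ▸ Subgroup.orderOf_dvd_natCard Z hc)) hZ
  have hQn : ∀ n : G, f n ∈ Subgroup.normalizer (D : Set (G ⧸ Z)) → ∀ q ∈ Q, n * q * n⁻¹ ∈ Q := by
    intro n hn q hq
    refine hpel _ ?_ ?_
    · show f (n * q * n⁻¹) ∈ D
      rw [map_mul, map_mul, map_inv]
      exact (Subgroup.mem_normalizer_iff.1 hn (f q)).1 (hQle hq)
    · obtain ⟨l, hl⟩ := hQp ⟨q, hq⟩
      have hl' : q ^ p ^ l = 1 := congrArg Subtype.val hl
      exact ⟨l, by rw [conj_pow, hl', mul_one, mul_inv_cancel]⟩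
  have hnorm : ∀ n : G, n ∈ Subgroup.normalizer (Q : Set G) ↔ f n ∈ Subgroup.normalizer (D : Set (G ⧸ Z)) := by
    intro n
    constructor
    · intro hn
      rw [Subgroup.mem_normalizer_iff]
      intro d
      constructor
      · intro hd
        obtain ⟨q, hq, rfl⟩ := hQD d hd
        rw [← map_inv, ← map_mul, ← map_mul]
        exact hQle ((Subgroup.mem_normalizer_iff.1 hn q).1 hq)
      · intro hd
        obtain ⟨q, hq, eq⟩ := hQD _ hd
        have h1 := (Subgroup.mem_normalizer_iff.1 (inv_mem hn) q).1 hq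
        have h2 : f (n⁻¹ * q * n⁻¹⁻¹) = d := by
          rw [map_mul, map_mul, eq, map_inv, map_inv, map_inv]; group
        rw [← h2]
        exact hQle h1
    · intro hn
      rw [Subgroup.mem_normalizer_iff]
      refine fun q => ⟨hQn n hn q, fun h1 => ?_⟩
      simpa [mul_assoc] using hQn n⁻¹ (by rw [map_inv]; exact inv_mem hn) _ h1
  have hQrad : Rad p Q := by
    intro R hR hle hconj r hr
    refine hpel r ?_ ?_
    · refine hrad (R.map f) (hR.map f) ?_ ?_ ⟨r, hr, rfl⟩
      · rintro _ ⟨v, hv, rfl⟩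
        exact (hnorm v).1 (hle hv)
      · rintro n hn _ ⟨v, hv, rfl⟩
        obtain ⟨n₀, rfl⟩ := hfs n
        exact ⟨n₀ * v * n₀⁻¹, hconj n₀ ((hnorm n₀).2 hn) v hv, by simp⟩
    · obtain ⟨k, hk⟩ := hR ⟨r, hr⟩
      exact ⟨k, congrArg Subtype.val hk⟩
  have hQne : Q ≠ ⊥ := by
    intro h0
    refine hne (eq_bot_iff.2 fun d hd => ?_)
    obtain ⟨q, hq, rfl⟩ := hQD d hd
    rw [h0, Subgroup.mem_bot] at hq
    rw [hq, map_one]
    exact one_mem _
  have hxQ : ∀ q ∈ Q, x₀ * q = q * x₀ := by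
    intro q hq
    have hn : f x₀ ∈ Subgroup.normalizer (D : Set (G ⧸ Z)) :=
      Subgroup.centralizer_le_normalizer _
        (Subgroup.mem_centralizer_iff.2 fun d hd => (hxD d hd).symm)
    have h1 : f (x₀ * q * x₀⁻¹ * q⁻¹) = 1 := by
      rw [map_mul, map_mul, map_mul, map_inv, map_inv, hxD _ (hQle hq)]; group
    have h2 := hfix _ (mul_mem (hQn x₀ hn q hq) (inv_mem hq)) ((QuotientGroup.eq_one_iff _).1 h1)
    rw [mul_inv_eq_one, mul_inv_eq_iff_eq_mul] at h2
    exact h2
  have hx₀ : ¬ p ∣ orderOf x₀ := by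
    intro hdvd
    have h1 : orderOf x₀ ∣ orderOf (f x₀) * Nat.card Z := by
      refine orderOf_dvd_of_pow_eq_one ?_
      rw [pow_mul]
      refine orderOf_dvd_iff_pow_eq_one.1 (Subgroup.orderOf_dvd_natCard Z ?_)
      rw [← QuotientGroup.eq_one_iff, QuotientGroup.mk_pow]
      exact pow_orderOf_eq_one (f x₀)
    exact ((Fact.out : p.Prime).dvd_mul.1 (hdvd.trans h1)).elim hx hZ
  have hc := h Q hQp hQne hQrad x₀ hx₀ hxQ
  rw [show f x₀ = 1 from (QuotientGroup.eq_one_iff _).2 hc]
  exact one_mem _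

end Cfsg.Agent.DefectChar
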