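import Cfsg.Agent.Lib.DefectChar.GeomTools
import Cfsg.Agent.Lib.Seitz.Symp
import Cfsg.Agent.Lib.Seitz.Unitary

/-!
# Symplectic and unitary groups

* `lag_scalar` : an element commuting with the transvections of a Lagrangian is scalar on it;
* `crit_psp`, `crit_psu` : the criterion for PSp and PSU.
-/

set_option autoImplicit false
set_option linter.unusedSectionVars false

namespace Cfsg.Agent.DefectChar

open Cfsg.Agent.Seitz Cfsg.Agent.GLOrder Cfsg.Agent.Unitary

section generic

variable {G : Type*} [Group G] {F V : Type*} [Field F] [AddCommGroup V] [Module F V] {Γ : Geo G F V}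
  {b : V → V → F} {σ : F → F}

theorem Sesq.exists_ne (S : Sesq Γ b σ) {w : V} (hw : w ≠ 0) : ∃ z, b z w ≠ 0 := by
  by_contra h
  push Not at h
  refine hw ((Submodule.mem_bot F).1 (S.dp ⊥ (Γ.mem_perp.2 fun z _ => ?_)))
  exact Γ.symm ((S.mem w z).2 (h z))

theorem lag_scalar (S : Sesq Γ b σ) {W : Submodule F V} (hW : W ≤ Γ.perp W) (hW0 : W ≠ ⊥) {x : G}
    (hcomm : ∀ g ∈ Γ.Nsub W hW, x * g = g * x)
    (htr : ∀ w ∈ W, ∃ g ∈ Γ.Nsub W hW, ∃ d : F, d ≠ 0 ∧ ∀ z, Γ.act g z = z + (d * b z w) • w) :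
    ∃ c, c * σ c = 1 ∧ ∀ w ∈ W, Γ.act x w = c • w := by
  have key : ∀ w ∈ W, ∀ z, b z w • Γ.act x w = b (Γ.act x z) w • w := by
    intro w hw z
    obtain ⟨g, hg, d, hd, hgz⟩ := htr w hw
    have h := congrArg (fun k => Γ.act k z) (hcomm g hg)
    simp only [Γ.act_mul] at h
    rw [hgz z, hgz, map_add, map_smul, add_right_inj, mul_smul, mul_smul] at h
    exact smul_right_injective V hd h
  obtain ⟨c, hc⟩ := exists_scalar hW0 (Γ.act x : V →ₗ[F] V) fun w hw => by
    rcases eq_or_ne w 0 with rfl | hw0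
    · exact ⟨1, by simp⟩
    obtain ⟨z, hz⟩ := S.exists_ne hw0
    refine ⟨(b z w)⁻¹ * b (Γ.act x z) w, smul_right_injective V hz ?_⟩
    show b z w • Γ.act x w = b z w • ((b z w)⁻¹ * b (Γ.act x z) w) • w
    rw [key w hw z, smul_smul, ← mul_assoc, mul_inv_cancel₀ hz, one_mul]
  refine ⟨c, ?_, hc⟩
  obtain ⟨w, hw, hw0⟩ := (Submodule.ne_bot_iff W).1 hW0
  obtain ⟨z, hz⟩ := S.exists_ne hw0
  have h1 := key w hw z
  rw [show Γ.act x w = c • w from hc w hw, smul_smul] at h1
  have h2 := S.inv x z w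
  rw [show Γ.act x w = c • w from hc w hw, S.smul_right, ← smul_left_injective F hw0 h1,
    mul_comm (b z w) c, ← mul_assoc, mul_comm (σ c) c] at h2
  exact mul_right_cancel₀ hz (by rw [one_mul]; exact h2)

end generic

section symp

variable {F : Type*} [Field F] [Finite F] {m : ℕ} {p : ℕ} [Fact p.Prime] [CharP F p]

theorem radCent_sp (hm : 1 ≤ m) : RadCent p (Matrix.symplecticGroup (Fin m) F) := by
  haveI : Finite (Matrix.symplecticGroup (Fin m) F) :=
    Finite.of_injective (fun g => (g : Matrix (Fin m ⊕ Fin m) (Fin m ⊕ Fin m) F)) Subtype.val_injective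
  set Γ := spGeo m F
  have S : Sesq Γ (fun x v => sympB m F x v) (RingHom.id F) := by
    refine sesq_of_nondeg (RingHom.id F) (fun _ => rfl) (fun u u' v => by simp) (fun u v v' => by simp)
      (fun c u v => by simp) (fun c u v => by simp) (fun g u v => ?_) (fun v x => ?_) sympB_nondeg
    · exact (mem_symplecticGroup_iff_preserves _).1 g.2 u v
    · rw [sp_mem_ps, alt_swap sympB_self x v, neg_eq_zero]
  refine radCent S (p := p) spAct_injective (fun Q hQ hne => ?_) ?_ ?_
  · exact ⟨_, exists_mem_radical S spAct_injective hQ hne, radical_le_perp, fun _ _ => trivial,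
      fun n hn w hw => radical_invariant hn hw⟩
  · intro W hW _ u hu w hw _
    obtain ⟨g, hg⟩ := exists_sp_unip u w (S.mem_perp.1 hu w hw) 0
    replace hg : ∀ z, Γ.act g z = z + sympB m F z u • w + sympB m F z w • u := fun z => by
      show spAct m F g z = _
      rw [hg, zero_mul, add_zero]
    refine ⟨g, (Γ.mem_Nsub hW).2 ⟨fun z hz => ?_, fun z hz => ?_, fun z => ?_⟩, 1, one_ne_zero, fun z hz => ?_⟩
    · rw [hg, S.mem_perp.1 (hW hz) w hw, alt_swap sympB_self u z, S.mem_perp.1 hu z hz]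
      simp
    · rw [hg, S.mem_perp.1 hz w hw, zero_smul, add_zero, add_sub_cancel_left]
      exact W.smul_mem _ hw
    · rw [hg, add_assoc, add_sub_cancel_left]
      exact add_mem (Submodule.smul_mem _ _ (hW hw)) (Submodule.smul_mem _ _ hu)
    · rw [hg, S.mem_perp.1 hz w hw, zero_smul, add_zero, one_mul]
  · intro W hW _ hW0 _ x _ hcomm
    refine lag_scalar S hW hW0 hcomm fun w hw => ?_
    obtain ⟨g, hg⟩ := exists_sp_unip 0 w (by simp) 1
    replace hg : ∀ z, Γ.act g z = z + sympB m F z w • w := fun z => by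
      show spAct m F g z = _
      rw [hg]; simp
    refine ⟨g, (Γ.mem_Nsub hW).2 ⟨fun z hz => ?_, fun z hz => ?_, fun z => ?_⟩, 1, one_ne_zero, fun z => ?_⟩
    · rw [hg, S.mem_perp.1 (hW hz) w hw]; simp
    · rw [hg, S.mem_perp.1 hz w hw]; simp
    · rw [hg, add_sub_cancel_left]
      exact Submodule.smul_mem _ _ (hW hw)
    · rw [hg, one_mul]

theorem crit_psp (hm : 1 ≤ m) : Crit p (Cfsg.PSp m F) := by
  haveI : Nonempty (Fin m) := ⟨⟨0, hm⟩⟩
  haveI : Finite (Matrix.symplecticGroup (Fin m) F) :=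
    Finite.of_injective (fun g => (g : Matrix (Fin m ⊕ Fin m) (Fin m ⊕ Fin m) F)) Subtype.val_injective
  refine crit_of_radCent (radCent_quotient (not_dvd_center (Γ := spGeo m F) spAct_injective fun z hz => ?_)
    (radCent_sp hm))
  rcases center_Sp.1 hz with e | e
  · exact ⟨1, fun v => by show spAct m F z v = _; rw [spAct_apply, e, Matrix.one_mulVec, one_smul]⟩
  · exact ⟨-1, fun v => by show spAct m F z v = _; rw [spAct_apply, e, Matrix.neg_mulVec, Matrix.one_mulVec, neg_one_smul]⟩

end symp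

section unitary

variable {F : Type*} [Field F] [Fintype F] {n q : ℕ} {p : ℕ} [Fact p.Prime] [CharP F p]

theorem radCent_su (hF : Fintype.card F = q ^ 2) : RadCent p (Cfsg.SU n F q) := by
  haveI : Finite (Cfsg.SU n F q) := Subtype.finite
  have H := hermForm_isHerm hF n
  set Γ := suGeo hF n
  have hσ : ∀ a, Unitary.conjHom hF (Unitary.conjHom hF a) = a := fun a => pow_q_pow_q hF a
  have S : Sesq Γ (Cfsg.hermForm n F q) (Unitary.conjHom hF) := by
    refine sesq_of_nondeg (Unitary.conjHom hF) hσ H.add_left (fun u v v' => H.add_right hF u v v')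
      H.smul_left (fun c u v => H.smul_right c u v) (fun g u v => ?_) (fun v x => su_mem_ps) (hermForm_nondeg hF n)
    show Cfsg.hermForm n F q (suHom n F q g u) (suHom n F q g v) = _
    rw [suHom_apply, suHom_apply, suAct_herm]
  refine radCent S (p := p) suHom_injective (fun Q hQ hne => ?_) ?_ ?_
  · refine ⟨_, exists_mem_radical S suHom_injective hQ hne, radical_le_perp, fun w hw => ?_,
      fun k hk w hw => radical_invariant hk hw⟩
    exact S.mem_perp.1 hw.2 w hw.1
  · intro W hW _ u hu w hw hws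
    change Cfsg.hermForm n F q w w = 0 at hws
    obtain ⟨c, hc⟩ := exists_trace_eq hF (c := -Cfsg.hermForm n F q u u) (by rw [neg_pow_q hF, H.self_fixed])
    have huw := S.mem_perp.1 hu w hw
    obtain ⟨g, hg⟩ := exists_su_unip (p := p) hF u w huw hws c hc
    refine ⟨g, (Γ.mem_Nsub hW).2 ⟨fun z hz => ?_, fun z hz => ?_, fun z => ?_⟩, -1, neg_ne_zero.2 one_ne_zero,
      fun z hz => ?_⟩
    · show suHom n F q g z = z
      rw [hg, S.mem_perp.1 (hW hz) w hw, (H.eq_zero_symm hF).1 (S.mem_perp.1 hu z hz)]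
      simp
    · show suHom n F q g z - z ∈ W
      rw [hg, S.mem_perp.1 hz w hw, zero_smul, add_zero, add_sub_cancel_left]
      exact W.smul_mem _ hw
    · show suHom n F q g z - z ∈ _
      rw [hg, add_assoc, add_sub_cancel_left]
      exact add_mem (Submodule.smul_mem _ _ hu) (Submodule.smul_mem _ _ (hW hw))
    · show suHom n F q g z = _
      rw [hg, S.mem_perp.1 hz w hw, zero_smul, add_zero, mul_zero, zero_sub, neg_one_mul]
  · intro W hW _ hW0 hsing x _ hcomm
    refine lag_scalar S hW hW0 hcomm fun w hw => ?_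
    obtain ⟨d, hd, hd'⟩ := exists_skew hF
    obtain ⟨g, hg⟩ := exists_su_unip (p := p) hF 0 w (H.zero_left w) (hsing w hw) d (by
      rw [hd', H.zero_left, neg_zero, add_neg_cancel])
    replace hg : ∀ z, Γ.act g z = z + (d * Cfsg.hermForm n F q z w) • w := fun z => by
      show suHom n F q g z = _
      rw [hg, smul_zero, add_zero, H.zero_right hF, sub_zero]
    refine ⟨g, (Γ.mem_Nsub hW).2 ⟨fun z hz => ?_, fun z hz => ?_, fun z => ?_⟩, d, hd, hg⟩
    · rw [hg, S.mem_perp.1 (hW hz) w hw]; simp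
    · rw [hg, S.mem_perp.1 hz w hw]; simp
    · rw [hg, add_sub_cancel_left]
      exact Submodule.smul_mem _ _ (hW hw)

theorem crit_psu (hF : Fintype.card F = q ^ 2) (hn : 2 ≤ n) : Crit p (Cfsg.PSU n F q) := by
  haveI : Finite (Cfsg.SU n F q) := Subtype.finite
  haveI : Nonempty (Fin n) := ⟨⟨0, by omega⟩⟩
  refine crit_of_radCent (radCent_quotient (not_dvd_center (Γ := suGeo hF n) suHom_injective fun z hz => ?_)
    (radCent_su hF))
  obtain ⟨c, -, -, hc⟩ := center_SU_scalar hF hn hz
  refine ⟨c, fun v => ?_⟩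
  show suHom n F q z v = _
  funext i
  simp [suHom_apply, suAct, hc, Matrix.mulVec_diagonal]

end unitary

end Cfsg.Agent.DefectChar
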