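import Cfsg.Agent.Lib.DefectChar.Abstract
import Cfsg.Agent.Lib.Seitz.Geom

/-!
# Radical subgroups of groups of isometries and their centralisers

* `Sesq` : a sesquilinear form describing the orthogonality, with the double orthogonal property;
* `perp_ne_bot`, `exists_mem_radical` : fixed vectors in the radical of the fixed space;
* `scalar_on` : an element commuting with the unipotent group of an isotropic subspace acts on the three
  layers as one scalar;
* `radCent` : non-trivial radical `p`-subgroups are centralised by central `p`-regular elements only.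
-/

set_option autoImplicit false
set_option linter.unusedSectionVars false

namespace Cfsg.Agent.DefectChar

open Cfsg.Agent.Seitz
open scoped Pointwise

variable {G : Type*} [Group G] {F V : Type*} [Field F] [AddCommGroup V] [Module F V]

/-- The sesquilinear form of a geometry. -/
structure Sesq (Γ : Geo G F V) (b : V → V → F) (σ : F → F) : Prop where
  add_left : ∀ u u' v, b (u + u') v = b u v + b u' v
  add_right : ∀ u v v', b u (v + v') = b u v + b u v'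
  smul_left : ∀ (c : F) u v, b (c • u) v = c * b u v
  smul_right : ∀ (c : F) u v, b u (c • v) = σ c * b u v
  inv : ∀ g u v, b (Γ.act g u) (Γ.act g v) = b u v
  mem : ∀ v x, x ∈ Γ.ps v ↔ b x v = 0
  dp : ∀ W : Submodule F V, Γ.perp (Γ.perp W) ≤ W

variable {Γ : Geo G F V} {b : V → V → F} {σ : F → F} (S : Sesq Γ b σ)

include S

theorem Sesq.sub_left (u u' v : V) : b (u - u') v = b u v - b u' v := by
  have h := S.add_left (u - u') u' v
  rw [sub_add_cancel] at h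
  linear_combination -h

theorem Sesq.sub_right (u v v' : V) : b u (v - v') = b u v - b u v' := by
  have h := S.add_right u (v - v') v'
  rw [sub_add_cancel] at h
  linear_combination -h

theorem Sesq.mem_perp {W : Submodule F V} {x : V} : x ∈ Γ.perp W ↔ ∀ w ∈ W, b x w = 0 := by
  rw [Geo.mem_perp]
  exact forall₂_congr fun w _ => S.mem w x

theorem Sesq.perp_ne_bot {W : Submodule F V} (hW : W ≠ ⊤) : Γ.perp W ≠ ⊥ := fun h => hW (by
  rw [eq_top_iff]
  refine le_trans (fun x _ => ?_) (S.dp W)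
  rw [Geo.mem_perp, h]
  rintro w hw
  rw [(Submodule.mem_bot F).1 hw]
  exact Γ.symm (Submodule.zero_mem _))

omit S in
/-- The subspace fixed by a subgroup. -/
def fixSub (Γ : Geo G F V) (Q : Subgroup G) : Submodule F V where
  carrier := {v | ∀ g ∈ Q, Γ.act g v = v}
  add_mem' {u v} hu hv g hg := by rw [map_add, hu g hg, hv g hg]
  zero_mem' g _ := map_zero _
  smul_mem' c v hv g hg := by rw [map_smul, hv g hg]

omit S in
theorem mem_fixSub {Q : Subgroup G} {v : V} : v ∈ fixSub Γ Q ↔ ∀ g ∈ Q, Γ.act g v = v := Iff.rfl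

omit S in
theorem fixSub_map {Q : Subgroup G} {n : G} (hn : n ∈ Subgroup.normalizer (Q : Set G)) {v : V}
    (hv : v ∈ fixSub Γ Q) : Γ.act n v ∈ fixSub Γ Q := fun g hg => by
  have h := hv _ ((Subgroup.mem_normalizer_iff.1 (inv_mem hn) g).1 hg)
  have h2 := congrArg (Γ.act n) h
  rw [← Γ.act_mul, show n * (n⁻¹ * g * n⁻¹⁻¹) = g * n by group, Γ.act_mul] at h2
  exact h2

omit S in
theorem perp_map_mem {W : Submodule F V} {n : G} (hn : ∀ w ∈ W, Γ.act n⁻¹ w ∈ W) {x : V}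
    (hx : x ∈ Γ.perp W) : Γ.act n x ∈ Γ.perp W := Γ.mem_perp.2 fun w hw => by
  simpa [Γ.act_inv'] using Γ.inv n (Γ.mem_perp.1 hx _ (hn w hw))

/-- A non-trivial `p`-subgroup fixes a non-zero vector orthogonal to all fixed vectors. -/
theorem exists_mem_radical [Finite V] {p : ℕ} [Fact p.Prime] [CharP F p] (hinj : Function.Injective Γ.act)
    {Q : Subgroup G} (hQ : IsPGroup p ↥Q) (hne : Q ≠ ⊥) :
    fixSub Γ Q ⊓ Γ.perp (fixSub Γ Q) ≠ ⊥ := by
  set C := fixSub Γ Q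
  have hC : C ≠ ⊤ := fun h => hne ((Subgroup.eq_bot_iff_forall _).2 fun g hg => hinj (LinearEquiv.ext fun v => by
    rw [map_one, (h ▸ Submodule.mem_top : v ∈ C) g hg]; rfl))
  haveI : Nontrivial ↥(Γ.perp C) := Submodule.nontrivial_iff_ne_bot.2 (S.perp_ne_bot hC)
  have hstab : ∀ g : ↥Q, ∀ x ∈ Γ.perp C, Γ.act g x ∈ Γ.perp C := fun g x hx =>
    perp_map_mem (fun w hw => fixSub_map (inv_mem (Subgroup.le_normalizer g.2)) hw) hx
  letI : MulAction ↥Q ↥(Γ.perp C) :=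
    { smul := fun g x => ⟨Γ.act g.1 x.1, hstab g _ x.2⟩
      one_smul := fun x => Subtype.ext (show Γ.act 1 x.1 = x.1 by rw [map_one]; rfl)
      mul_smul := fun g h x => Subtype.ext (show Γ.act (g.1 * h.1) x.1 = _ by rw [Γ.act_mul]; rfl) }
  have hdvd : p ∣ Nat.card ↥(Γ.perp C) := by
    haveI : Finite F := by
      obtain ⟨v, hv⟩ := exists_ne (0 : ↥(Γ.perp C))
      exact Finite.of_injective (fun c : F => c • v) (smul_left_injective F hv)
    haveI := Fintype.ofFinite F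
    rw [Module.natCard_eq_pow_finrank (K := F)]
    obtain ⟨n, -, hn⟩ := FiniteField.card F p
    rw [Nat.card_eq_fintype_card, hn]
    exact dvd_pow (dvd_pow_self p n.pos.ne') Module.finrank_pos.ne'
  obtain ⟨w, hw, hw0⟩ := hQ.exists_fixed_point_of_prime_dvd_card_of_fixed_point ↥(Γ.perp C) hdvd
    (a := 0) (fun g => Subtype.ext (map_zero (Γ.act g.1)))
  intro h
  have : w.1 ∈ C ⊓ Γ.perp C := ⟨fun g hg => congrArg Subtype.val (hw ⟨g, hg⟩), w.2⟩
  rw [h, Submodule.mem_bot] at this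
  exact hw0 (Subtype.ext this).symm

/-- The action on the layers of an isotropic subspace is one scalar. -/
theorem scalar_on {W : Submodule F V} (hW : W ≤ Γ.perp W) (hW0 : W ≠ ⊥) (hsing : ∀ w ∈ W, Γ.sing w) {x : G}
    (hxW : ∀ w ∈ W, Γ.act x w ∈ W) (hxW' : ∀ w ∈ W, Γ.act x⁻¹ w ∈ W)
    (hcomm : ∀ g ∈ Γ.Nsub W hW, x * g = g * x)
    (hel : ∀ u ∈ Γ.perp W, ∀ w ∈ W, Γ.sing w →
      ∃ g ∈ Γ.Nsub W hW, ∃ e : F, e ≠ 0 ∧ ∀ z ∈ Γ.perp W, Γ.act g z = z + (e * b z u) • w)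
    (hlag : Γ.perp W ≤ W → ∃ c, c * σ c = 1 ∧ ∀ w ∈ W, Γ.act x w = c • w) :
    ∃ c : F, (∀ w ∈ W, Γ.act x w = c • w) ∧ (∀ z ∈ Γ.perp W, Γ.act x z - c • z ∈ W) ∧
      ∀ v, Γ.act x v - c • v ∈ Γ.perp W := by
  suffices h : ∃ c, c * σ c = 1 ∧ (∀ w ∈ W, Γ.act x w = c • w) ∧ ∀ z ∈ Γ.perp W, Γ.act x z - c • z ∈ W by
    obtain ⟨c, hc, h1, h2⟩ := h
    refine ⟨c, h1, h2, fun v => S.mem_perp.2 fun w hw => ?_⟩
    have h3 := S.inv x v w
    rw [h1 w hw, S.smul_right] at h3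
    rw [S.sub_left, S.smul_left]
    refine mul_left_cancel₀ (right_ne_zero_of_mul_eq_one hc) ?_
    rw [mul_sub, h3, mul_zero, ← mul_assoc, mul_comm (σ c) c, hc, one_mul, sub_self]
  by_cases hmid : ∀ z ∈ Γ.perp W, ∀ u ∈ Γ.perp W, b z u = 0
  · have hle : Γ.perp W ≤ W := fun z hz => S.dp W (S.mem_perp.2 fun u hu => hmid z hz u hu)
    obtain ⟨c, hc, h1⟩ := hlag hle
    exact ⟨c, hc, h1, fun z hz => sub_mem (hxW z (hle hz)) (W.smul_mem c (hle hz))⟩
  push Not at hmid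
  obtain ⟨z₀, hz₀, u₀, hu₀, hb₀⟩ := hmid
  have key : ∀ u ∈ Γ.perp W, ∀ w ∈ W, ∀ z ∈ Γ.perp W, b z u • Γ.act x w = b (Γ.act x z) u • w := by
    intro u hu w hw z hz
    obtain ⟨g, hg, e, he, hge⟩ := hel u hu w hw (hsing w hw)
    have h := congrArg (fun k => Γ.act k z) (hcomm g hg)
    simp only [Γ.act_mul] at h
    rw [hge z hz, hge _ (perp_map_mem hxW' hz), map_add, map_smul, add_right_inj, mul_smul, mul_smul] at h
    exact smul_right_injective V he h
  set c := b (Γ.act x z₀) u₀ / b z₀ u₀ with hcdef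
  have h1 : ∀ w ∈ W, Γ.act x w = c • w := fun w hw => by
    refine smul_right_injective V hb₀ ?_
    show b z₀ u₀ • Γ.act x w = b z₀ u₀ • c • w
    rw [key u₀ hu₀ w hw z₀ hz₀, smul_smul, hcdef, mul_div_cancel₀ _ hb₀]
  obtain ⟨w₀, hw₀, hw₀0⟩ := (Submodule.ne_bot_iff W).1 hW0
  have h2 : ∀ z ∈ Γ.perp W, ∀ u ∈ Γ.perp W, b (Γ.act x z) u = c * b z u := fun z hz u hu => by
    have h := key u hu w₀ hw₀ z hz
    rw [h1 w₀ hw₀, smul_smul] at h
    rw [← smul_left_injective F hw₀0 h, mul_comm]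
  have h3 : ∀ z ∈ Γ.perp W, Γ.act x z - c • z ∈ W := fun z hz => S.dp W (S.mem_perp.2 fun u hu => by
    rw [S.sub_left, S.smul_left, h2 z hz u hu, sub_self])
  refine ⟨c, ?_, h1, h3⟩
  have h4 := h2 z₀ hz₀ (Γ.act x u₀) (perp_map_mem hxW' hu₀)
  rw [S.inv] at h4
  have h5 : b z₀ (Γ.act x u₀) = σ c * b z₀ u₀ := by
    rw [← S.smul_right, ← sub_eq_zero, ← S.sub_right]
    exact S.mem_perp.1 hz₀ _ (h3 u₀ hu₀)
  rw [h5, ← mul_assoc] at h4
  exact mul_right_cancel₀ hb₀ (by rw [one_mul]; exact h4.symm)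

/-- The unipotent group of an invariant isotropic subspace lies in a radical subgroup. -/
theorem Nsub_le [Finite G] {p : ℕ} [Fact p.Prime] [CharP F p] (hinj : Function.Injective Γ.act)
    {Q : Subgroup G} (hQ : IsPGroup p ↥Q) (hrad : Rad p Q) {W : Submodule F V} (hW : W ≤ Γ.perp W)
    (hinv : ∀ n ∈ Subgroup.normalizer (Q : Set G), ∀ w ∈ W, Γ.act n w ∈ W) : Γ.Nsub W hW ≤ Q := by
  set N := Subgroup.normalizer (Q : Set G)
  set R := Γ.Nsub W hW
  have hR : IsPGroup p ↥R := Γ.isP_Nsub hinj W hW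
  have hmap : ∀ n ∈ N, W.map (Γ.act n : V →ₗ[F] V) = W := fun n hn => by
    refine le_antisymm (Submodule.map_le_iff_le_comap.2 fun w hw => hinv n hn w hw) fun w hw => ?_
    exact ⟨_, hinv n⁻¹ (inv_mem hn) w hw, Γ.act_inv' n w⟩
  have hconj : ∀ n ∈ N, ∀ v ∈ R, n * v * n⁻¹ ∈ R := fun n hn v hv => Γ.conj_Nsub n hW hW (hmap n hn) hv
  have hRN : R ⊓ N ≤ Q := hrad _ (hR.to_le inf_le_left) inf_le_right fun n hn v hv =>
    ⟨hconj n hn v hv.1, N.mul_mem (N.mul_mem hn hv.2) (N.inv_mem hn)⟩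
  have hnorm : Q ≤ Subgroup.normalizer (R : Set G) := fun g hg => by
    rw [Subgroup.mem_normalizer_iff]
    refine fun v => ⟨hconj g (Subgroup.le_normalizer hg) v, fun hv => ?_⟩
    simpa [mul_assoc] using hconj g⁻¹ (inv_mem (Subgroup.le_normalizer hg)) _ hv
  have hP : IsPGroup p ↥(R ⊔ Q) := IsPGroup.to_sup_of_normal_left' hR hQ hnorm
  haveI : Group.IsNilpotent ↥(R ⊔ Q) := hP.isNilpotent
  by_contra hle
  set A := Q.subgroupOf (R ⊔ Q)
  have hlt : A < ⊤ := lt_top_iff_ne_top.2 fun e => hle (le_sup_left.trans (Subgroup.subgroupOf_eq_top.1 e))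
  obtain ⟨g, hg, hgA⟩ := SetLike.exists_of_lt (Group.normalizerCondition_of_isNilpotent A hlt)
  obtain ⟨r, hr, y, hy, e⟩ : ∃ r ∈ R, ∃ y ∈ Q, (g : G) = r * y := by
    have h : (g : G) ∈ (R : Set G) * (Q : Set G) := by
      rw [← Subgroup.coe_mul_of_right_le_normalizer_left R Q hnorm]; exact g.2
    obtain ⟨r, hr, y, hy, e⟩ := Set.mem_mul.1 h
    exact ⟨r, hr, y, hy, e.symm⟩
  have hgN : (g : G) ∈ N := by
    rw [Subgroup.mem_normalizer_iff]
    refine fun d => ⟨fun hd => ?_, fun hd => ?_⟩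
    · exact (Subgroup.mem_normalizer_iff.1 hg ⟨d, Subgroup.mem_sup_right hd⟩).1 hd
    · have h1 := (Subgroup.mem_normalizer_iff.1 (inv_mem hg) ⟨(g : G) * d * (g : G)⁻¹, Subgroup.mem_sup_right hd⟩).1 hd
      simpa [Subgroup.mem_subgroupOf, A, mul_assoc] using h1
  have hrN : r ∈ N := by
    rw [show r = (g : G) * y⁻¹ by rw [e]; group]
    exact mul_mem hgN (inv_mem (Subgroup.le_normalizer hy))
  exact hgA (show (g : G) ∈ Q by rw [e]; exact mul_mem (hRN ⟨hr, hrN⟩) hy)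

/-- Non-trivial radical subgroups are centralised by central `p`-regular elements only. -/
theorem radCent [Finite G] {p : ℕ} [Fact p.Prime] [CharP F p] (hinj : Function.Injective Γ.act)
    (hexist : ∀ Q : Subgroup G, IsPGroup p ↥Q → Q ≠ ⊥ → ∃ W : Submodule F V, W ≠ ⊥ ∧ W ≤ Γ.perp W ∧
      (∀ w ∈ W, Γ.sing w) ∧ ∀ n ∈ Subgroup.normalizer (Q : Set G), ∀ w ∈ W, Γ.act n w ∈ W)
    (hel : ∀ W (hW : W ≤ Γ.perp W), (∀ w ∈ W, Γ.sing w) → ∀ u ∈ Γ.perp W, ∀ w ∈ W, Γ.sing w →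
      ∃ g ∈ Γ.Nsub W hW, ∃ e : F, e ≠ 0 ∧ ∀ z ∈ Γ.perp W, Γ.act g z = z + (e * b z u) • w)
    (hlag : ∀ W (hW : W ≤ Γ.perp W), Γ.perp W ≤ W → W ≠ ⊥ → (∀ w ∈ W, Γ.sing w) → ∀ x : G,
      (∀ w ∈ W, Γ.act x w ∈ W) → (∀ g ∈ Γ.Nsub W hW, x * g = g * x) →
      ∃ c, c * σ c = 1 ∧ ∀ w ∈ W, Γ.act x w = c • w) :
    RadCent p G := by
  intro Q hQ hne hrad x hx hxQ
  obtain ⟨W, hW0, hW, hsing, hinv⟩ := hexist Q hQ hne
  have hxN : x ∈ Subgroup.normalizer (Q : Set G) :=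
    Subgroup.centralizer_le_normalizer _ (Subgroup.mem_centralizer_iff.2 fun d hd => (hxQ d hd).symm)
  have hR := Nsub_le S hinj hQ hrad hW hinv
  have hcomm : ∀ g ∈ Γ.Nsub W hW, x * g = g * x := fun g hg => hxQ g (hR hg)
  obtain ⟨c, h1, h2, h3⟩ := scalar_on S hW hW0 hsing (hinv x hxN) (hinv _ (inv_mem hxN)) hcomm
    (hel W hW hsing) (fun h => hlag W hW h hW0 hsing x (hinv x hxN) hcomm)
  obtain ⟨v₀, -, hv₀⟩ := (Submodule.ne_bot_iff W).1 hW0
  haveI : Nontrivial V := ⟨⟨v₀, 0, hv₀⟩⟩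
  haveI : CharP (Module.End F V) p := charP_of_injective_algebraMap (algebraMap F (Module.End F V)).injective p
  set T : Module.End F V := (Γ.act x : V →ₗ[F] V)
  set s : Module.End F V := algebraMap F (Module.End F V) c
  have hTs : ∀ v, (T - s) v = Γ.act x v - c • v := fun v => rfl
  have h4 : (T - s) ^ 3 = 0 := LinearMap.ext fun v => by
    have e : (T - s) ((T - s) ((T - s) v)) = 0 := by
      rw [hTs, hTs, hTs]
      exact sub_eq_zero.2 (h1 _ (h2 _ (h3 v)))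
    simpa [pow_succ, Module.End.mul_apply] using e
  have hp3 : 3 ≤ p ^ 2 := by
    have := (Fact.out : p.Prime).two_le
    nlinarith
  have h5 : T ^ p ^ 2 = algebraMap F (Module.End F V) (c ^ p ^ 2) := by
    have h := pow_eq_zero_of_le hp3 h4
    rw [sub_pow_char_pow_of_commute (p := p) 2 (Algebra.commutes c T).symm, sub_eq_zero] at h
    rw [h, map_pow]
  have hcop : (p ^ 2).Coprime (orderOf x) := ((Fact.out : p.Prime).coprime_iff_not_dvd.2 hx).pow_left 2
  obtain ⟨m, hm⟩ := exists_pow_eq_self_of_coprime hcop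
  have h6 : T = algebraMap F (Module.End F V) ((c ^ p ^ 2) ^ m) := by
    rw [map_pow, ← h5]
    conv_lhs => rw [show T = LinearEquiv.automorphismGroup.toLinearMapMonoidHom (Γ.act x) from rfl, ← hm]
    rw [map_pow, map_pow, map_pow, map_pow]
    rfl
  have h7 : ∀ v, Γ.act x v = ((c ^ p ^ 2) ^ m) • v := fun v => congrArg (fun f : Module.End F V => f v) h6
  refine Subgroup.mem_center_iff.2 fun g => hinj (LinearEquiv.ext fun v => ?_)
  rw [Γ.act_mul, Γ.act_mul, h7, h7, map_smul]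

end Cfsg.Agent.DefectChar
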