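import Cfsg.Agent.Lib.DefectChar.Geom

/-!
# Tools for the geometric criterion

* `sesq_of_nondeg` : a non-degenerate sesquilinear form has the double orthogonal property;
* `exists_scalar` : a map preserving every line of a subspace is a scalar on it;
* `radical_invariant` : the radical of the fixed space is invariant under the normaliser;
* `not_dvd_center` : a faithful scalar centre has order prime to the characteristic.
-/

set_option autoImplicit false
set_option linter.unusedSectionVars false

namespace Cfsg.Agent.DefectChar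

open Cfsg.Agent.Seitz

variable {G : Type*} [Group G] {F V : Type*} [Field F] [AddCommGroup V] [Module F V] {Γ : Geo G F V}

theorem sesq_of_nondeg [Finite F] [FiniteDimensional F V] {b : V → V → F} (σ : F →+* F)
    (hσ : ∀ a, σ (σ a) = a) (add_left : ∀ u u' v, b (u + u') v = b u v + b u' v)
    (add_right : ∀ u v v', b u (v + v') = b u v + b u v')
    (smul_left : ∀ (c : F) u v, b (c • u) v = c * b u v)
    (smul_right : ∀ (c : F) u v, b u (c • v) = σ c * b u v)
    (inv : ∀ g u v, b (Γ.act g u) (Γ.act g v) = b u v)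
    (mem : ∀ v x, x ∈ Γ.ps v ↔ b x v = 0) (nd : ∀ x, (∀ v, b x v = 0) → x = 0) :
    Sesq Γ b σ where
  add_left := add_left
  add_right := add_right
  smul_left := smul_left
  smul_right := smul_right
  inv := inv
  mem := mem
  dp W y hy := by
    let Ψ : V → Module.Dual F V := fun x =>
      { toFun := fun v => σ (b x v)
        map_add' := fun v v' => by rw [add_right, map_add]
        map_smul' := fun c v => by rw [smul_right, map_mul, hσ, RingHom.id_apply, smul_eq_mul] }
    haveI : Finite V := Module.finite_of_finite F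
    haveI : Finite (Module.Dual F V) := Module.finite_of_finite F
    have hinj : Function.Injective Ψ := fun x x' e => sub_eq_zero.1 (nd _ fun v => by
      have h := σ.injective (LinearMap.congr_fun e v)
      have h2 := add_left (x - x') x' v
      rw [sub_add_cancel] at h2
      linear_combination h - h2)
    have hsurj : Function.Surjective Ψ := (hinj.bijective_of_nat_card_le (by
      rw [Module.natCard_eq_pow_finrank (K := F) (V := Module.Dual F V),
        Module.natCard_eq_pow_finrank (K := F) (V := V), Subspace.dual_finrank_eq])).2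
    by_contra hyW
    obtain ⟨f, hfy, hfW⟩ := Submodule.exists_dual_map_eq_bot_of_notMem hyW inferInstance
    obtain ⟨x, rfl⟩ := hsurj f
    have hx : x ∈ Γ.perp W := Γ.mem_perp.2 fun w hw => (mem w x).2 (σ.injective (by
      rw [map_zero]
      exact (Submodule.mem_bot F).1 (hfW ▸ Submodule.mem_map_of_mem hw)))
    have h0 : b x y = 0 := (mem y x).1 (Γ.symm (Γ.mem_perp.1 hy x hx))
    exact hfy (show σ (b x y) = 0 by rw [h0, map_zero])

/-- A map preserving every line of a subspace is a scalar on it. -/
theorem exists_scalar {W : Submodule F V} (hW : W ≠ ⊥) (f : V →ₗ[F] V) (h : ∀ w ∈ W, ∃ a : F, f w = a • w) :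
    ∃ c : F, ∀ w ∈ W, f w = c • w := by
  obtain ⟨w₀, hw₀, hw₀0⟩ := (Submodule.ne_bot_iff W).1 hW
  obtain ⟨c, hc⟩ := h w₀ hw₀
  refine ⟨c, fun w hw => ?_⟩
  obtain ⟨a, ha⟩ := h w hw
  by_cases hdep : ∃ t : F, w = t • w₀
  · obtain ⟨t, rfl⟩ := hdep
    rw [map_smul, hc, smul_comm]
  obtain ⟨d, hd⟩ := h (w + w₀) (W.add_mem hw hw₀)
  rw [map_add, ha, hc, smul_add] at hd
  have h1 : (a - d) • w = (d - c) • w₀ := by
    rw [sub_smul, sub_smul]
    linear_combination (norm := module) hd
  by_cases had : a = d
  · rw [had, sub_self, zero_smul, eq_comm, smul_eq_zero, or_iff_left hw₀0, sub_eq_zero] at h1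
    rw [ha, had, h1]
  · exact absurd ⟨(a - d)⁻¹ * (d - c), by
      rw [mul_smul, ← h1, smul_smul, inv_mul_cancel₀ (sub_ne_zero.2 had), one_smul]⟩ hdep

/-- The radical of the fixed space is invariant under the normaliser. -/
theorem radical_invariant {Q : Subgroup G} {n : G} (hn : n ∈ Subgroup.normalizer (Q : Set G)) {w : V}
    (hw : w ∈ fixSub Γ Q ⊓ Γ.perp (fixSub Γ Q)) : Γ.act n w ∈ fixSub Γ Q ⊓ Γ.perp (fixSub Γ Q) :=
  ⟨fixSub_map hn hw.1, perp_map_mem (fun _ h => fixSub_map (inv_mem hn) h) hw.2⟩

theorem radical_le_perp {Q : Subgroup G} :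
    fixSub Γ Q ⊓ Γ.perp (fixSub Γ Q) ≤ Γ.perp (fixSub Γ Q ⊓ Γ.perp (fixSub Γ Q)) := fun _ hx =>
  Γ.mem_perp.2 fun w hw => Γ.mem_perp.1 hx.2 w hw.1

/-- A faithful scalar centre has order prime to the characteristic. -/
theorem not_dvd_center [Finite G] [Nontrivial V] {p : ℕ} [Fact p.Prime] [CharP F p]
    (hinj : Function.Injective Γ.act)
    (hsc : ∀ z ∈ Subgroup.center G, ∃ c : F, ∀ v, Γ.act z v = c • v) :
    ¬ p ∣ Nat.card (Subgroup.center G) := by
  intro h
  obtain ⟨⟨z, hz⟩, ho⟩ := exists_prime_orderOf_dvd_card' p h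
  rw [Subgroup.orderOf_mk] at ho
  obtain ⟨c, hc⟩ := hsc z hz
  have hpow : ∀ (n : ℕ) v, Γ.act (z ^ n) v = (c ^ n) • v := fun n => by
    induction n with
    | zero => intro v; simp
    | succ n ih => intro v; rw [pow_succ, Γ.act_mul, hc, map_smul, ih, smul_smul, pow_succ']
  obtain ⟨v, hv⟩ := exists_ne (0 : V)
  have h1 : c ^ p = 1 := smul_left_injective F hv (by
    show (c ^ p) • v = (1 : F) • v
    rw [← hpow, ← ho, pow_orderOf_eq_one, one_smul, map_one]
    rfl)
  have h2 : c = 1 := frobenius_inj F p (by rw [frobenius_def, frobenius_def, h1, one_pow])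
  have h3 : z = 1 := hinj (LinearEquiv.ext fun v => by rw [hc, h2, one_smul, map_one]; rfl)
  rw [h3, orderOf_one] at ho
  exact (Fact.out : p.Prime).one_lt.ne ho

end Cfsg.Agent.DefectChar
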