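import Cfsg.Agent.Lib.DefectChar.GeomTools
import Cfsg.Agent.Lib.Seitz.Orth

/-!
# Orthogonal groups

* `exists_singular_radical` : in characteristic two a non-trivial 2-subgroup of Ω leaves invariant a
  non-zero totally singular subspace;
* `crit_pomega` : the criterion for PΩ in dimension at least five.
-/

set_option autoImplicit false
set_option linter.unusedSectionVars false

namespace Cfsg.Agent.DefectChar

open Cfsg Cfsg.Agent.Seitz Cfsg.Agent.Orth Module
open QuadraticMap (polar)

variable {ι : Type} [Fintype ι] [DecidableEq ι] {F : Type*} [Field F] [Fintype F] {p : ℕ} [Fact p.Prime]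
  [CharP F p] {Q : QuadraticForm F (ι → F)}

theorem omGeo_inj : Function.Injective (omGeo Q).act := fun _ _ e =>
  Subtype.ext (ext_ap fun x => LinearEquiv.congr_fun e x)

theorem sesq_omega (hQ : Q.polarBilin.Nondegenerate) :
    Sesq (omGeo Q) (fun x v => polar ⇑Q x v) (RingHom.id F) := by
  refine sesq_of_nondeg (RingHom.id F) (fun _ => rfl) (fun u u' v => pl_add_left Q u u' v)
    (fun u v v' => pl_add_right Q u v v') (fun c u v => pl_smul_left Q c u v)
    (fun c u v => pl_smul_right Q c u v) (fun g u v => ?_) (fun v x => ?_) fun x hx => hQ.1 x hx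
  · show polar ⇑Q (omHom Q g u) (omHom Q g v) = _
    rw [omHom_apply, omHom_apply, polar_ap]
  · rw [om_mem_ps, pl_comm]

/-- The singular vectors of the radical of the fixed space. -/
def singRadical (Q : QuadraticForm F (ι → F)) (P : Subgroup ↥(Omega F ⇑Q)) : Submodule F (ι → F) where
  carrier := {w | w ∈ fixSub (omGeo Q) P ⊓ (omGeo Q).perp (fixSub (omGeo Q) P) ∧ Q w = 0}
  add_mem' {u v} hu hv := by
    refine ⟨add_mem hu.1 hv.1, ?_⟩
    have h := om_mem_ps.1 ((omGeo Q).mem_perp.1 hv.1.2 u hu.1.1)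
    rw [Q_add, hu.2, hv.2, h, add_zero, add_zero]
  zero_mem' := ⟨zero_mem _, map_zero Q⟩
  smul_mem' c v hv := ⟨Submodule.smul_mem _ c hv.1, by rw [Q_smul, hv.2, mul_zero]⟩

theorem singRadical_invariant (P : Subgroup ↥(Omega F ⇑Q)) {n : ↥(Omega F ⇑Q)}
    (hn : n ∈ Subgroup.normalizer (P : Set ↥(Omega F ⇑Q))) {w : ι → F} (hw : w ∈ singRadical Q P) :
    (omGeo Q).act n w ∈ singRadical Q P :=
  ⟨radical_invariant hn hw.1, (omGeo Q).sing_inv n hw.2⟩

theorem exists_singular_radical (hQ : Q.polarBilin.Nondegenerate) (hn : 5 ≤ Fintype.card ι)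
    (P : Subgroup ↥(Omega F ⇑Q)) (hP : IsPGroup p ↥P) (hne : P ≠ ⊥) : singRadical Q P ≠ ⊥ := by
  classical
  haveI : Finite ↥(Omega F ⇑Q) := Subtype.finite
  have S := sesq_omega hQ
  set Γ := omGeo Q
  set C := fixSub Γ P with hC
  set Y := Γ.perp C with hY
  intro hbot
  obtain ⟨v, hv, hv0⟩ := (Submodule.ne_bot_iff _).1 (exists_mem_radical S omGeo_inj hP hne)
  have hQv : Q v ≠ 0 := fun h => hv0 ((Submodule.mem_bot F).1 (hbot ▸ (⟨hv, h⟩ : v ∈ singRadical Q P)))
  have hvv : polar ⇑Q v v = 0 := om_mem_ps.1 (Γ.mem_perp.1 hv.2 v hv.1)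
  have h2 : (2 : F) = 0 := by
    rw [pl_self] at hvv
    exact (mul_eq_zero.1 hvv).resolve_right hQv
  have hp2 : p = 2 := by
    have : (p : ℕ) ∣ 2 := by rw [← CharP.cast_eq_zero_iff F p]; exact_mod_cast h2
    exact (Nat.prime_dvd_prime_iff_eq Fact.out Nat.prime_two).1 this
  subst hp2
  haveI : CharP F 2 := inferInstance
  -- every element of the radical is a multiple of `v`
  have hline : ∀ w, w ∈ C → w ∈ Y → w ∈ F ∙ v := by
    intro w hw hw'
    obtain ⟨t, ht⟩ := FiniteField.isSquare_of_char_two (ringChar.eq F 2) (Q w / Q v)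
    have h : w + t • v ∈ singRadical Q P := by
      refine ⟨⟨add_mem hw (C.smul_mem t hv.1), add_mem hw' (Y.smul_mem t hv.2)⟩, ?_⟩
      have h0 := om_mem_ps.1 (Γ.mem_perp.1 hw' v hv.1)
      rw [Q_add, Q_smul, pl_smul_right, pl_comm Q w v, h0, ← ht, div_mul_cancel₀ _ hQv]
      linear_combination Q w * h2
    rw [hbot, Submodule.mem_bot] at h
    rw [eq_neg_of_add_eq_zero_left h]
    exact neg_mem (Submodule.smul_mem _ t (Submodule.mem_span_singleton_self v))
  have hperpv : ∀ y ∈ Y, polar ⇑Q v y = 0 := fun y hy => om_mem_ps.1 (Γ.mem_perp.1 hy v hv.1)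
  by_cases hle : Y ≤ F ∙ v
  · -- the elements of `P` fix the orthogonal of `v`
    refine hne ((Subgroup.eq_bot_iff_forall _).2 fun g hg => ?_)
    have hfix : ∀ z, polar ⇑Q v z = 0 → ap (g : IsoGrp Q) z = z := by
      intro z hz
      have hzC : z ∈ C := S.dp C (S.mem_perp.2 fun y hy => by
        obtain ⟨a, rfl⟩ := Submodule.mem_span_singleton.1 (hle hy)
        show polar ⇑Q z (a • v) = 0
        rw [pl_smul_right, pl_comm Q z v, hz, mul_zero])
      exact hzC g hg
    obtain ⟨y, hy⟩ := exists_polar_ne hQ hv0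
    set g' : IsoGrp Q := (g : IsoGrp Q)
    set k := ap g' y - y with hk
    have hkY : k ∈ Y := S.mem_perp.2 fun z hz => by
      have h1 : ap g' z = z := hz g hg
      show polar ⇑Q k z = 0
      rw [hk, pl_sub_left]
      conv_lhs => arg 1; rw [← h1, polar_ap]
      rw [sub_self]
    obtain ⟨f, hf⟩ := Submodule.mem_span_singleton.1 (hle hkY)
    have hgy : ap g' y = y + f • v := by rw [hf, hk, add_sub_cancel]
    have hdec : ∀ z, ap g' z = z + (polar ⇑Q v z / polar ⇑Q v y * f) • v := by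
      intro z
      set a := polar ⇑Q v z / polar ⇑Q v y with ha
      have h1 := hfix (z - a • y) (by rw [pl_sub_right, pl_smul_right, ha, div_mul_cancel₀ _ hy, sub_self])
      rw [map_sub, map_smul, hgy, smul_add, smul_smul, sub_eq_iff_eq_add] at h1
      rw [h1]
      abel
    have hq := Q_ap g' y
    rw [hgy, Q_add, Q_smul, pl_smul_right, pl_comm Q y v] at hq
    have hq' : f * (f * Q v + polar ⇑Q v y) = 0 := by linear_combination hq
    rcases mul_eq_zero.1 hq' with h | h
    · refine Subtype.ext (ext_ap fun z => ?_)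
      show ap g' z = ap (1 : IsoGrp Q) z
      rw [hdec, h, mul_zero, zero_smul, add_zero, ap_one]
    · exfalso
      have hG : Good Q := Good.of_card hQ (.inr (by omega))
      have e : g' = refl Q v := ext_ap fun z => by
        rw [hdec, refl_ap, sub_eq_add_neg, ← neg_smul]
        congr 2
        field_simp
        linear_combination (polar ⇑Q v z) * h
      have h6 := ((mem_omega_iff hG g').1 g.2).1
      rw [e, dick_refl hQ hQv] at h6
      norm_num at h6
  -- singular vectors of `Y` : a system of representatives modulo `v`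
  haveI : Finite (ι → F) := Pi.finite
  let T := {y : ↥Y // Q (y : ι → F) = 0}
  have hTY : ∀ y ∈ Y, ∀ t : F, Q (y + t • v) = Q y + t * t * Q v := fun y hy t => by
    rw [Q_add, Q_smul, pl_smul_right, pl_comm Q y v, hperpv y hy, mul_zero, add_zero]
  let e : T × F → ↥Y := fun x => ⟨(x.1.1 : ι → F) + x.2 • v, add_mem x.1.1.2 (Y.smul_mem _ hv.2)⟩
  have he : Function.Bijective e := by
    constructor
    · rintro ⟨⟨⟨a, ha⟩, ha0⟩, s⟩ ⟨⟨⟨a', ha'⟩, ha0'⟩, s'⟩ h
      have h1 : a + s • v = a' + s' • v := congrArg Subtype.val h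
      have h2' := congrArg Q h1
      rw [hTY a ha, hTY a' ha', ha0, ha0', zero_add, zero_add] at h2'
      have h3 : s = s' := frobenius_inj F 2 (by
        rw [frobenius_def, frobenius_def, pow_two, pow_two]
        exact mul_right_cancel₀ hQv h2')
      subst h3
      rw [add_left_inj] at h1
      subst h1
      rfl
    · rintro ⟨y, hy⟩
      obtain ⟨t, ht⟩ := FiniteField.isSquare_of_char_two (ringChar.eq F 2) (Q y / Q v)
      refine ⟨⟨⟨⟨y + t • v, add_mem hy (Y.smul_mem _ hv.2)⟩, ?_⟩, -t⟩, Subtype.ext ?_⟩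
      · rw [hTY y hy, ← ht, div_mul_cancel₀ _ hQv]
        linear_combination Q y * h2
      · show y + t • v + -t • v = y
        rw [neg_smul, add_neg_cancel_right]
  have hcardT : 2 ∣ Nat.card T := by
    have h1 := Nat.card_congr (Equiv.ofBijective e he)
    rw [Nat.card_prod, Module.natCard_eq_pow_finrank (K := F) (V := ↥Y)] at h1
    have hd : 2 ≤ finrank F ↥Y := by
      have hlt : (F ∙ v) < Y := lt_of_le_of_ne
        ((Submodule.span_singleton_le_iff_mem v _).2 hv.2) fun e' => hle e'.ge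
      have := Submodule.finrank_lt_finrank_of_lt hlt
      rw [finrank_span_singleton hv0] at this
      omega
    obtain ⟨k, hk⟩ : ∃ k, finrank F ↥Y = k + 2 := ⟨finrank F ↥Y - 2, by omega⟩
    rw [hk, pow_succ] at h1
    have h3 := Nat.eq_of_mul_eq_mul_right Nat.card_pos h1
    rw [h3, pow_succ, Nat.card_eq_fintype_card]
    obtain ⟨n, -, hn'⟩ := FiniteField.card F 2
    rw [hn']
    exact dvd_mul_of_dvd_right (dvd_pow_self 2 n.pos.ne') _
  have hstab : ∀ g : ↥P, ∀ y ∈ Y, Γ.act g y ∈ Y := fun g y hy =>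
    perp_map_mem (fun w hw => fixSub_map (inv_mem (Subgroup.le_normalizer g.2)) hw) hy
  letI : MulAction ↥P T :=
    { smul := fun g y => ⟨⟨Γ.act g.1 y.1.1, hstab g _ y.1.2⟩, Γ.sing_inv g.1 y.2⟩
      one_smul := fun y => Subtype.ext (Subtype.ext (show Γ.act 1 y.1.1 = y.1.1 by rw [map_one]; rfl))
      mul_smul := fun g h y => Subtype.ext (Subtype.ext (Γ.act_mul g.1 h.1 y.1.1)) }
  obtain ⟨⟨⟨w, hw⟩, hw0⟩, hwfix, hwne⟩ := hP.exists_fixed_point_of_prime_dvd_card_of_fixed_point T hcardT
    (a := ⟨0, map_zero Q⟩) (fun g => Subtype.ext (Subtype.ext (map_zero (Γ.act g.1))))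
  have hwC : w ∈ C := fun g hg => congrArg (fun y : T => (y.1.1 : ι → F)) (hwfix ⟨g, hg⟩)
  obtain ⟨a, rfl⟩ := Submodule.mem_span_singleton.1 (hline w hwC hw)
  change Q (a • v) = 0 at hw0
  rw [Q_smul, mul_eq_zero, or_iff_left hQv] at hw0
  have ha : a = 0 := by rcases mul_eq_zero.1 hw0 with h | h <;> exact h
  exact hwne (Subtype.ext (Subtype.ext (show (0 : ι → F) = a • v by rw [ha, zero_smul])))

theorem radCent_omega (hQ : Q.polarBilin.Nondegenerate) (hn : 5 ≤ Fintype.card ι) :
    RadCent p ↥(Omega F ⇑Q) := by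
  classical
  haveI : Finite ↥(Omega F ⇑Q) := Subtype.finite
  have hE : eichGen Q ≤ Omega F ⇑Q := eichGen_le_omega hQ (by omega) (.inr hn)
  have S := sesq_omega hQ
  set Γ := omGeo Q
  have elem : ∀ w u, Q w = 0 → polar ⇑Q w u = 0 → ∃ g : ↥(Omega F ⇑Q), ∀ z,
      Γ.act g z = z + polar ⇑Q w z • u - (polar ⇑Q u z + Q u * polar ⇑Q w z) • w := fun w u hw hu =>
    ⟨⟨eich Q w u, hE (eich_mem_eichGen w u)⟩, fun z => by
      show ap (eich Q w u) z = _
      rw [eich_ap hw hu]⟩
  refine radCent S (p := p) omGeo_inj (fun P hP hne => ⟨singRadical Q P, exists_singular_radical hQ hn P hP hne,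
    fun w hw => Γ.mem_perp.2 fun w' hw' => Γ.mem_perp.1 hw.1.2 w' hw'.1.1, fun w hw => hw.2,
    fun n hn' w hw => singRadical_invariant P hn' hw⟩) ?_ ?_
  · intro W hW _ u hu w hw hws
    change Q w = 0 at hws
    have huw : polar ⇑Q w u = 0 := by rw [pl_comm]; exact S.mem_perp.1 hu w hw
    obtain ⟨g, hg⟩ := elem w u hws huw
    refine ⟨g, (Γ.mem_Nsub hW).2 ⟨fun z hz => ?_, fun z hz => ?_, fun z => ?_⟩, -1, neg_ne_zero.2 one_ne_zero,
      fun z hz => ?_⟩
    · rw [hg, pl_comm Q w z, S.mem_perp.1 (hW hz) w hw, S.mem_perp.1 hu z hz]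
      simp
    · rw [hg, pl_comm Q w z, S.mem_perp.1 hz w hw, zero_smul, add_zero, sub_sub_cancel_left]
      exact neg_mem (W.smul_mem _ hw)
    · rw [hg, add_sub_assoc, add_sub_cancel_left]
      exact sub_mem (Submodule.smul_mem _ _ hu) (Submodule.smul_mem _ _ (hW hw))
    · rw [hg, pl_comm Q w z, S.mem_perp.1 hz w hw, zero_smul, add_zero, mul_zero, add_zero, neg_one_mul,
        pl_comm Q u z, neg_smul, sub_eq_add_neg]
  · intro W hW hle hW0 hsing x _ hcomm
    have key : ∀ u ∈ W, ∀ w ∈ W, ∀ z, polar ⇑Q w z • Γ.act x u - polar ⇑Q u z • Γ.act x w =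
        polar ⇑Q w (Γ.act x z) • u - polar ⇑Q u (Γ.act x z) • w := by
      intro u hu w hw z
      obtain ⟨g, hg⟩ := elem w u (hsing w hw) (S.mem_perp.1 (hW hw) u hu)
      have hQu : Q u = 0 := hsing u hu
      have hgN : g ∈ Γ.Nsub W hW := by
        refine (Γ.mem_Nsub hW).2 ⟨fun z hz => ?_, fun z hz => ?_, fun z => ?_⟩
        · rw [hg, pl_comm Q w z, S.mem_perp.1 (hW hz) w hw, pl_comm Q u z, S.mem_perp.1 (hW hz) u hu]
          simp
        · rw [hg, add_sub_assoc, add_sub_cancel_left]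
          exact sub_mem (W.smul_mem _ hu) (W.smul_mem _ hw)
        · rw [hg, add_sub_assoc, add_sub_cancel_left]
          exact sub_mem (Submodule.smul_mem _ _ (hW hu)) (Submodule.smul_mem _ _ (hW hw))
      have h := congrArg (fun k => Γ.act k z) (hcomm g hgN)
      simp only [Γ.act_mul] at h
      rw [hg z, hg, hQu, map_sub, map_add, map_smul, map_smul, zero_mul, zero_mul, add_zero, add_zero,
        add_sub_assoc, add_sub_assoc, add_right_inj] at h
      exact h
    have hdim : 3 ≤ finrank F W := by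
      have h1 := Submodule.finrank_mono hle
      have hR : Q.polarBilin.IsRefl := fun a b hab => by
        show polar ⇑Q b a = 0
        rw [pl_comm]; exact hab
      have h2 : LinearMap.BilinForm.orthogonal Q.polarBilin W ≤ Γ.perp W := fun z hz =>
        Γ.mem_perp.2 fun w hw => om_mem_ps.2 (hz w hw)
      have h3 := Submodule.finrank_mono h2
      have h4 := LinearMap.BilinForm.finrank_orthogonal hQ W
      rw [Module.finrank_fintype_fun_eq_card] at h4
      omega
    have hsep : ∀ u ∈ W, ∀ w ∈ W, w ≠ 0 → u ∉ F ∙ w → ∃ z, polar ⇑Q w z = 0 ∧ polar ⇑Q u z ≠ 0 := by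
      intro u _ w _ _ hu
      by_contra h
      push Not at h
      refine hu (S.dp _ (S.mem_perp.2 fun z hz => h z ?_))
      exact om_mem_ps.1 ((Γ.perp_singleton w).1 hz)
    obtain ⟨c, hc⟩ := exists_scalar hW0 (Γ.act x : (ι → F) →ₗ[F] (ι → F)) fun w hw => by
      rcases eq_or_ne w 0 with rfl | hw0
      · exact ⟨1, by simp⟩
      obtain ⟨u₁, hu₁, hu₁'⟩ : ∃ u ∈ W, u ∉ F ∙ w := by
        by_contra h
        push Not at h
        have := Submodule.finrank_mono (show W ≤ F ∙ w from h)
        rw [finrank_span_singleton hw0] at this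
        omega
      obtain ⟨u₂, hu₂, hu₂'⟩ : ∃ u ∈ W, u ∉ Submodule.span F {u₁, w} := by
        by_contra h
        push Not at h
        have h5 := Submodule.finrank_mono (show W ≤ Submodule.span F {u₁, w} from h)
        have h6 : finrank F ↥(Submodule.span F ({u₁, w} : Set (ι → F))) ≤ 2 :=
          (finrank_span_le_card _).trans (by simpa using Finset.card_le_two (a := u₁) (b := w))
        omega
      have hex : ∀ u ∈ W, u ∉ F ∙ w → Γ.act x w ∈ Submodule.span F {u, w} := by
        intro u hu hu'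
        obtain ⟨z, hz1, hz2⟩ := hsep u hu w hw hw0 hu'
        have h := key u hu w hw z
        rw [hz1, zero_smul, zero_sub] at h
        have h7 : polar ⇑Q u z • Γ.act x w ∈ Submodule.span F {u, w} := by
          rw [← neg_mem_iff, h]
          exact sub_mem (Submodule.smul_mem _ _ (Submodule.subset_span (by simp)))
            (Submodule.smul_mem _ _ (Submodule.subset_span (by simp)))
        exact (Submodule.smul_mem_iff _ hz2).1 h7
      obtain ⟨a, b, hab⟩ := Submodule.mem_span_pair.1 (hex u₁ hu₁ hu₁')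
      obtain ⟨a', b', hab'⟩ := Submodule.mem_span_pair.1 (hex u₂ hu₂ fun h =>
        hu₂' (Submodule.span_mono (by simp) h))
      refine ⟨b', ?_⟩
      show Γ.act x w = b' • w
      by_cases ha : a' = 0
      · rw [← hab', ha, zero_smul, zero_add]
      · refine absurd (Submodule.mem_span_pair.2 ⟨a'⁻¹ * a, a'⁻¹ * (b - b'), ?_⟩) hu₂'
        rw [mul_smul, mul_smul, ← smul_add, sub_smul, ← add_sub_assoc, hab, ← hab', add_sub_cancel_right,
          smul_smul, inv_mul_cancel₀ ha, one_smul]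
    refine ⟨c, ?_, hc⟩
    obtain ⟨w, hw, hw0⟩ := (Submodule.ne_bot_iff W).1 hW0
    obtain ⟨u, hu, hu'⟩ : ∃ u ∈ W, u ∉ F ∙ w := by
      by_contra h
      push Not at h
      have := Submodule.finrank_mono (show W ≤ F ∙ w from h)
      rw [finrank_span_singleton hw0] at this
      omega
    obtain ⟨z, hz1, hz2⟩ := hsep u hu w hw hw0 hu'
    have h := key u hu w hw z
    rw [hz1, zero_smul, zero_sub, show Γ.act x w = c • w from hc w hw, smul_smul] at h
    have h8 : polar ⇑Q w (Γ.act x z) = 0 := by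
      by_contra h9
      refine hu' (Submodule.mem_span_singleton.2
        ⟨(polar ⇑Q w (Γ.act x z))⁻¹ * (polar ⇑Q u (Γ.act x z) - polar ⇑Q u z * c), ?_⟩)
      rw [mul_smul, sub_smul, sub_eq_add_neg (polar ⇑Q u (Γ.act x z) • w), h, add_sub_cancel, smul_smul,
        inv_mul_cancel₀ h9, one_smul]
    rw [h8, zero_smul, zero_sub, neg_inj] at h
    have h9 := smul_left_injective F hw0 h
    have h10 : polar ⇑Q (Γ.act x u) (Γ.act x z) = polar ⇑Q u z := S.inv x u z
    rw [show Γ.act x u = c • u from hc u hu, pl_smul_left, ← h9, mul_comm (polar ⇑Q u z) c, ← mul_assoc] at h10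
    exact mul_right_cancel₀ hz2 (by rw [one_mul]; exact h10)

theorem crit_pomega (hQ : Q.polarBilin.Nondegenerate) (hn : 5 ≤ Fintype.card ι) :
    Crit p (POmega F ⇑Q) := by
  classical
  haveI : Finite ↥(Omega F ⇑Q) := Subtype.finite
  haveI : Nonempty ι := Fintype.card_pos_iff.1 (by omega)
  have hE : eichGen Q ≤ Omega F ⇑Q := eichGen_le_omega hQ (by omega) (.inr hn)
  refine crit_of_radCent (radCent_quotient (not_dvd_center (Γ := omGeo Q) omGeo_inj fun z hz => ?_)
    (radCent_omega hQ hn))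
  obtain ⟨a, -, ha⟩ := (mem_center_omega_iff hQ (by omega) hE z).1 hz
  exact ⟨a, ha⟩

end Cfsg.Agent.DefectChar
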