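import Cfsg.Agent.Lib.DefectChar.RGD
import Cfsg.Agent.Lib.ChevBlocks.Blocks
import Cfsg.Agent.Lib.TwistE6D4.Results
import Cfsg.Agent.Lib.Twisted.F4Facts
import Cfsg.Agent.Lib.Chev.SylowU
import Cfsg.Agent.Lib.Chev.DataE6
import Cfsg.Agent.Lib.Chev.DataD4
import Cfsg.Agent.Lib.ChevBN.RootTables

/-!
# The criterion for ²E₆, ³D₄ and ²F₄

* `not_dvd_index_Upos` : `U` is Sylow when the order of the torus is prime to `p`;
* `crit_twistedE6`, `crit_twistedD4`, `crit_twistedF4`.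
-/

set_option autoImplicit false
set_option maxRecDepth 100000
set_option linter.unusedSectionVars false

namespace Cfsg.Agent.DefectChar

open Cfsg.Agent.RGD Cfsg.Agent.RGD.RootData

theorem not_dvd_index_Upos {Γ : Type*} [Group Γ] [Finite Γ] {Φ I : Type*} (R : RootData Γ Φ I) {p : ℕ}
    [Fact p.Prime] (hUp : IsPGroup p ↥R.Upos) (hH : ¬ p ∣ Nat.card ↥R.H) :
    ¬ p ∣ (R.Upos.subgroupOf R.G).index := by
  set U' := R.Upos.subgroupOf R.G
  have hU' : IsPGroup p ↥U' :=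
    hUp.of_equiv (Subgroup.subgroupOfEquivOfLe (R.Upos_le_B.trans R.B_le_G)).symm
  obtain ⟨P, hP⟩ := hU'.exists_le_sylow
  suffices h : (P : Subgroup ↥R.G) ≤ U' by
    have e : U' = (P : Subgroup ↥R.G) := le_antisymm hP h
    rw [e]
    exact P.not_dvd_index
  intro y hy
  -- normalisers of `U` in `P` lie in `U`
  have key : ∀ g : ↥R.G, g ∈ (P : Subgroup ↥R.G) → (∀ z ∈ U', g * z * g⁻¹ ∈ U') → g ∈ U' := by
    intro g hgP hg
    obtain ⟨b, hb, l, u, hu, e⟩ := R.exists_normalForm g.2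
    obtain ⟨v, hv, h, hh, rfl⟩ := R.exists_B hb
    have hu' := R.Uminus_le_Upos l hu
    have hl : R.nw l ∈ R.H := R.mem_H_of_pos fun r hr => by
      rw [← R.U_le_B_iff]
      intro x hx
      have h1 : h * x * h⁻¹ ∈ R.U (R.ww l r) := R.H_conj_U h hh _ x hx
      rw [← R.map_conj_U, RootData.mem_map_conj] at h1
      set z := u⁻¹ * ((R.nw l)⁻¹ * (h * x * h⁻¹) * R.nw l) * u with hz
      have hzU : z ∈ R.Upos := by
        have h0 : R.U r ≤ R.Upos := R.U_le_Upos hr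
        exact mul_mem (mul_mem (inv_mem hu') (h0 h1)) hu'
      have h2 : (g : Γ) * z * (g : Γ)⁻¹ ∈ R.Upos := hg ⟨z, R.B_le_G (R.Upos_le_B hzU)⟩ hzU
      have h3 : v * (h * h * x * h⁻¹ * h⁻¹) * v⁻¹ ∈ R.Upos := by
        convert h2 using 1
        rw [hz, e]; group
      have h4 := mul_mem (mul_mem (inv_mem hv) h3) hv
      have h5 := R.H_conj_span _ (inv_mem hh) _ (R.H_conj_span _ (inv_mem hh) _ h4)
      refine R.Upos_le_B ?_
      rw [show x = h⁻¹ * (h⁻¹ * (v⁻¹ * (v * (h * h * x * h⁻¹ * h⁻¹) * v⁻¹) * v) * h⁻¹⁻¹) * h⁻¹⁻¹ by group]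
      exact h5
    have hgB : (g : Γ) ∈ R.B := by
      rw [e]; exact mul_mem (mul_mem hb (R.H_le_B hl)) (R.Upos_le_B hu')
    obtain ⟨w, hw, k, hk, ek⟩ := R.exists_B hgB
    have hwG : w ∈ R.G := R.B_le_G (R.Upos_le_B hw)
    have hkG : k ∈ R.G := R.B_le_G (R.H_le_B hk)
    have hkP : (⟨k, hkG⟩ : ↥R.G) ∈ (P : Subgroup ↥R.G) := by
      have e' : (⟨k, hkG⟩ : ↥R.G) = (⟨w, hwG⟩ : ↥R.G)⁻¹ * g := Subtype.ext (by simp [ek])
      rw [e']
      exact mul_mem (inv_mem (hP (show (⟨w, hwG⟩ : ↥R.G) ∈ U' from hw))) hgP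
    obtain ⟨j, hj⟩ := IsPGroup.iff_orderOf.1 P.isPGroup' ⟨⟨k, hkG⟩, hkP⟩
    rw [Subgroup.orderOf_mk, Subgroup.orderOf_mk] at hj
    rcases Nat.eq_zero_or_pos j with rfl | hj0
    · rw [pow_zero, orderOf_eq_one_iff] at hj
      show (g : Γ) ∈ R.Upos
      rw [ek, hj, mul_one]
      exact hw
    · exact absurd ((dvd_pow_self p hj0.ne').trans (hj ▸ Subgroup.orderOf_dvd_natCard R.H hk)) hH
  haveI : Group.IsNilpotent ↥(P : Subgroup ↥R.G) := P.isPGroup'.isNilpotent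
  by_contra hyU
  set A := U'.subgroupOf (P : Subgroup ↥R.G)
  have hlt : A < ⊤ := lt_top_iff_ne_top.2 fun e => hyU (Subgroup.subgroupOf_eq_top.1 e hy)
  obtain ⟨g, hg, hgA⟩ := SetLike.exists_of_lt (Group.normalizerCondition_of_isNilpotent A hlt)
  exact hgA (key g g.2 fun z hz => (Subgroup.mem_normalizer_iff.1 hg ⟨z, hP hz⟩).1 hz)

open Cfsg.Lie Cfsg.Lie.ChevalleyDatum Cfsg.Agent.Chev Cfsg.Agent.TwistE6D4

variable {D : ChevalleyDatum} {M : List (List ℤ)} {d : ℤ} {K : Type*} [Field K] [Fintype K] {p : ℕ}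
  [Fact p.Prime] [CharP K p]

theorem ww_repOf (C : TwistE6D4.Ctx D K) (l : List (Fin C.m)) (r : C.Orb) :
    ∀ q, q < D.nroots → C.repOf q = r.1 →
      (l.map C.node).foldr (fun i => wF C.T i) q < D.nroots ∧
        (C.rgd.ww l r).1 = C.repOf ((l.map C.node).foldr (fun i => wF C.T i) q) := by
  intro q hq e
  induction l with
  | nil => exact ⟨hq, e.symm⟩
  | cons a l ih =>
    obtain ⟨h1, h2⟩ := ih
    refine ⟨C.wF_lt a h1, ?_⟩
    show C.repOf (wF C.T (C.node a) (C.rgd.ww l r).1) = _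
    rw [h2, C.repOf_wF a h1]
    rfl

/-- The table condition for a longest word and connectedness. -/
def TableOK (T : Twist D) {m : ℕ} (node : Fin m → Fin D.rank) (w : List (Fin m)) : Prop :=
  (∀ q < D.nroots, 0 < T.ht q → T.ht ((w.map node).foldr (fun i => wF T i) q) < 0) ∧
    ∀ J : Finset (Fin m), J.Nonempty → J ≠ Finset.univ →
      ∃ j ∈ J, ∃ k, k ∉ J ∧ T.ht (wF T (node k) (D.simple (node j).val)) ≠ 1

theorem crit_ctx (C : TwistE6D4.Ctx D K) (hR : ChevBN.Roots D M d) {w : List (Fin C.m)}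
    (hw : TableOK C.T C.node w) : Crit p ↥C.G0 := by
  classical
  rw [← C.rgd_G]
  have hl₀ : ∀ r, C.rgd.pos r → ¬ C.rgd.pos (C.rgd.ww w r) := by
    intro r hr
    obtain ⟨h1, h2⟩ := ww_repOf C w r r.1 (C.orb_lt r) (C.repOf_self r.2)
    show ¬ 0 < C.T.ht (C.rgd.ww w r).1
    rw [h2, C.ht_repOf h1]
    have := hw.1 r.1 (C.orb_lt r) hr
    omega
  have hC : Conn C.rgd := by
    intro J ⟨j₀, hj₀⟩ ⟨k₀, hk₀⟩
    obtain ⟨j, hj, k, hk, hne⟩ := hw.2 (Finset.univ.filter (· ∈ J)) ⟨j₀, by simp [hj₀]⟩ fun e => hk₀ (by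
      have := Finset.ext_iff.1 e k₀; simpa using this)
    refine ⟨j, by simpa using hj, k, by simpa using hk, fun e => hne ?_⟩
    have e' : C.repOf (wF C.T (C.node k) (D.simple (C.node j).val)) = D.simple (C.node j).val :=
      congrArg Subtype.val e
    rw [← C.ht_repOf (C.wF_lt k (C.p_lt j)), e', C.hR.ht_one]
  haveI : Finite C.Orb := Finite.of_injective (fun r => (⟨r.1, C.orb_lt r⟩ : Fin D.nroots))
    fun a b e => Subtype.ext (by simpa using e)
  have hU : C.rgd.Upos ≤ D.posUnipotent K := C.pos_inf_G0.symm.le.trans inf_le_left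
  have hUp : IsPGroup p ↥C.rgd.Upos := (BT.isPGroup_pos p C.hD).to_le hU
  refine crit_rgd C.rgd hl₀ hC hUp (not_dvd_index_Upos C.rgd hUp fun h => ?_)
  exact ChevBlocks.not_dvd_card_H C.hD (h.trans (Subgroup.card_dvd_of_le C.H0_le_diagonal))

theorem e6_table : TableOK e6Twist e6Node (List.replicate 6 [(0 : Fin 4), 1, 2, 3]).flatten := by
  unfold TableOK; decide +kernel

theorem d4_table : TableOK d4Twist d4Node (List.replicate 3 [(0 : Fin 2), 1]).flatten := by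
  unfold TableOK; decide +kernel

theorem crit_twistedE6 {q : ℕ} (hq : IsPrimePow q) (hK : Fintype.card K = q ^ 2) :
    Crit p ↥(twistedE6 K q) := by
  obtain ⟨φ, e, -⟩ := exists_ctxE6 DataE6.good hq hK
  rw [e]
  exact crit_ctx (ctxE6 DataE6.good φ) ChevBN.rootsE6 e6_table

theorem crit_twistedD4 {q : ℕ} (hq : IsPrimePow q) (hK : Fintype.card K = q ^ 3) :
    Crit p ↥(twistedD4 K q) := by
  obtain ⟨φ, e, -⟩ := exists_ctxD4 DataD4.good hq hK
  rw [e]
  exact crit_ctx (ctxD4 DataD4.good φ) ChevBN.rootsD4 d4_table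

section F4

open Cfsg.Agent.Twisted.F4 Cfsg.Agent.ChevBN

omit [Fact p.Prime] [CharP K p] in
theorem crit_twistedF4 {m : ℕ} (hK : Fintype.card K = 2 ^ (2 * m + 1)) :
    Crit 2 ↥(twistedF4 K (2 ^ m)) := by
  haveI := charP_f4 hK
  haveI : Fact (Nat.Prime 2) := ⟨Nat.prime_two⟩
  rw [twisted_eq hK]
  set R := rgdF4' hK (m := m)
  have hl : ∀ r : Fin 16, r.val < 8 →
      ¬ (((List.replicate 4 [(0 : Fin 2), 1]).flatten).foldr wcl r).val < 8 := by decide
  have hc : wcl 0 (sc 1) ≠ sc 1 ∧ wcl 1 (sc 0) ≠ sc 0 := by decide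
  have hC : Conn R := by
    intro J ⟨j, hj⟩ ⟨k, hk⟩
    refine ⟨j, hj, k, hk, ?_⟩
    have hne : j ≠ k := fun e => hk (e ▸ hj)
    fin_cases j <;> fin_cases k <;> first | exact absurd rfl hne | exact hc.1 | exact hc.2
  have hUp : IsPGroup 2 ↥R.Upos := IsPGroup.of_card (n := (2 * m + 1) * 12) (by rw [card_Upos hK, ← pow_mul])
  refine crit_rgd R hl hC hUp (not_dvd_index_Upos R hUp fun h => ?_)
  refine ChevBlocks.not_dvd_card_H (F := K) (p := 2) DataF4.good (h.trans (Subgroup.card_dvd_of_le ?_))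
  exact fun x hx => hx.1

end F4

end Cfsg.Agent.DefectChar
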