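import Cfsg.Prelude.Def_LieTypeChar
import Cfsg.Agent.Lib.DefectChar.Classical
import Cfsg.Agent.Lib.DefectChar.Orth
import Cfsg.Agent.Lib.DefectChar.Twisted
import Cfsg.Agent.Lib.SLBlocks.Blocks
import Cfsg.Agent.Lib.ChevBN.Data
import Cfsg.Agent.Lib.Chev.All
import Cfsg.Agent.Lib.Suzuki.Partition
import Cfsg.Agent.Lib.Suzuki.LieModel
import Cfsg.Agent.S1155

/-!
# Groups of Lie type: blocks in the defining characteristic have defect zero or full defect

* `crit_psl`, `crit_suzuki`, `crit_ree`, `crit_chev` : the remaining families;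
* `crit_lieTypeChar` : the criterion for all sixteen families.
-/

set_option autoImplicit false
set_option linter.unusedSectionVars false

namespace Cfsg.Agent.DefectChar

open Cfsg Cfsg.Agent.Orth Cfsg.Lie

theorem crit_psl {F : Type} [Field F] [Fintype F] {n : ℕ} (hn : 2 ≤ n) {p : ℕ} [Fact p.Prime] [CharP F p] :
    Crit p (Matrix.ProjectiveSpecialLinearGroup (Fin n) F) := by
  classical
  obtain ⟨m, rfl⟩ : ∃ m, n = m + 1 := ⟨n - 1, by omega⟩
  have hZ : ¬ p ∣ Nat.card (Subgroup.center (Matrix.SpecialLinearGroup (Fin (m + 1)) F)) := by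
    intro h
    obtain ⟨⟨z, hz⟩, ho⟩ := exists_prime_orderOf_dvd_card' p h
    rw [Subgroup.orderOf_mk] at ho
    obtain ⟨r, -, hr⟩ := Matrix.SpecialLinearGroup.mem_center_iff.1 hz
    have h1 : Matrix.scalar (Fin (m + 1)) (r ^ p) = Matrix.scalar (Fin (m + 1)) 1 := by
      rw [map_pow, hr, ← Matrix.SpecialLinearGroup.coe_pow, ← ho, pow_orderOf_eq_one, map_one,
        Matrix.SpecialLinearGroup.coe_one]
    have h2 : r = 1 := frobenius_inj F p (by
      rw [frobenius_def, frobenius_def, one_pow]; exact Matrix.scalar_inj.1 h1)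
    have h3 : z = 1 := Subtype.ext (by rw [← hr, h2, map_one, Matrix.SpecialLinearGroup.coe_one])
    rw [h3, orderOf_one] at ho
    exact (Fact.out : p.Prime).one_lt.ne ho
  refine crit_of_radCent (radCent_quotient hZ fun D hD hne hrad x hx hxD => ?_)
  refine SLBlocks.central_of_radical hD hne (fun R hRn hRp v hv => ?_) hx
    (Subgroup.mem_centralizer_iff.2 fun d hd => (hxD d hd).symm)
  have h := hrad (R.map (Subgroup.normalizer (D : Set (Matrix.SpecialLinearGroup (Fin (m + 1)) F))).subtype)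
    (hRp.map _) (Subgroup.map_subtype_le R) (by
    rintro k hk _ ⟨r, hr, rfl⟩
    exact ⟨⟨k, hk⟩ * r * ⟨k, hk⟩⁻¹, hRn.conj_mem r hr ⟨k, hk⟩, rfl⟩)
  exact Subgroup.mem_subgroupOf.2 (h ⟨v, hv, rfl⟩)

theorem crit_suzuki {G : Type*} [Group G] (h : IsoSuzuki G) : Crit 2 G := by
  obtain ⟨F, _, _, m, hm, hF, ⟨e⟩⟩ := h
  haveI : Fact (Nat.Prime 2) := ⟨Nat.prime_two⟩
  refine crit_of_equiv (e.trans (Suzuki.lieEquiv hm hF).symm) (crit_of_ti fun P Q hne => ?_)
  rw [Subgroup.eq_bot_iff_forall]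
  intro g hg
  by_contra hg1
  exact hne (Sylow.ext ((Suzuki.partition_unique hm hF hg1).unique ⟨.inl ⟨P, rfl⟩, hg.1⟩ ⟨.inl ⟨Q, rfl⟩, hg.2⟩))

theorem crit_ree {G : Type*} [Group G] (h : IsoRee G) : Crit 3 G := by
  obtain ⟨K, _, _, m, hm, hK, ⟨e⟩⟩ := h
  haveI : Fact (Nat.Prime 3) := ⟨Nat.prime_three⟩
  exact crit_of_equiv e (crit_of_ti fun P Q hne => S1155.result hm hK P Q hne)

open Cfsg.Lie.ChevalleyDatum Cfsg.Agent.Blocks in
theorem crit_chev {F : Type} [Field F] [Fintype F] {p : ℕ} [Fact p.Prime] [CharP F p] {D : ChevalleyDatum}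
    (hmem : D ∈ [chevG2, chevB2, chevD4, chevF4, chevE6, chevE7, chevE8]) : Crit p ↥(D.group F) := by
  classical
  have hD := Chev.good_of_mem hmem
  obtain ⟨M, d, hR⟩ := ChevBN.exists_roots D hmem
  obtain ⟨hC, hA⟩ := ChevBlocks.tables_of_mem hmem
  obtain ⟨-, ord, hord⟩ := ChevBN.conn_of_mem hmem
  intro Def hF E hE
  let P := ChevBlocks.sylowU hD hR (p := p) (F := F)
  let Def' : Subgroup (GL D.Idx F) → Prop := fun Y =>
    ∃ E₀ : Subgroup ↥(D.group F), Def E₀ ∧ Y = E₀.map (D.group F).subtype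
  have hT : ChevBlocks.Tame (D := D) Def' := by
    refine ⟨?_, ?_⟩
    · rintro _ ⟨E₀, hE₀, rfl⟩ g hg
      refine ⟨conjSub ⟨g, hg⟩ E₀, hF.conj _ hE₀ _, ?_⟩
      rw [conjSub, Subgroup.map_map, Subgroup.map_map]
      rfl
    · rintro _ ⟨E₀, hE₀, rfl⟩ hle
      obtain ⟨x, -, hxE, hmemE⟩ := hF.inter E₀ hE₀ P fun z hz => hle ⟨z, hz, rfl⟩
      refine ⟨x, x.2, ?_, fun z => ⟨?_, ?_⟩⟩
      · rintro _ ⟨z, hz, rfl⟩
        exact congrArg Subtype.val (hxE z hz)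
      · rintro ⟨z, hz, rfl⟩
        exact (hmemE z).1 hz
      · rintro ⟨h1, h2⟩
        exact ⟨⟨z, ChevBlocks.U_le_group hD hR h1⟩, (hmemE _).2 ⟨h1, h2⟩, rfl⟩
  obtain ⟨Q, hQ⟩ := (hF.isP E hE).exists_le_sylow
  obtain ⟨c, hc⟩ := MulAction.exists_smul_eq ↥(D.group F) Q P
  have hle : conjSub c E ≤ (P : Subgroup ↥(D.group F)) := by
    rintro _ ⟨z, hz, rfl⟩
    rw [← hc, Sylow.coe_subgroup_smul]
    exact Subgroup.smul_mem_pointwise_smul z _ _ (hQ hz)
  rcases ChevBlocks.trivial_or_full hD hR hC hT hA hord (E := (conjSub c E).map (D.group F).subtype)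
      ⟨_, hF.conj _ hE c, rfl⟩ (by rintro _ ⟨z, hz, rfl⟩; exact hle hz) with h | h
  · left
    rwa [Subgroup.map_eq_bot_iff_of_injective _ (D.group F).subtype_injective,
      Subgroup.map_eq_bot_iff_of_injective _ (MulAut.conj c).injective] at h
  · right
    have e : conjSub c E = (P : Subgroup ↥(D.group F)) := le_antisymm hle fun z hz => by
      obtain ⟨w, hw, ew⟩ := h hz
      rwa [← Subtype.ext ew]
    rw [← card_conjSub c E, e]
    exact P.card_eq_multiplicity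

theorem crit_lieTypeChar {G : Type*} [Group G] {p : ℕ} [Fact p.Prime] (hG : IsLieTypeChar p G) :
    Crit p G := by
  classical
  rcases hG with h | h | h | h | h | h | h | h | ⟨rfl, h⟩ | ⟨rfl, h⟩ | ⟨rfl, h⟩
  · obtain ⟨F, _, _, _, n, hn, -, ⟨e⟩⟩ := h
    exact crit_of_equiv e (crit_psl hn)
  · obtain ⟨F, _, _, _, m, hm, -, ⟨e⟩⟩ := h
    haveI : Finite (Matrix.symplecticGroup (Fin m) F) :=
      Finite.of_injective (fun g => (g : Matrix (Fin m ⊕ Fin m) (Fin m ⊕ Fin m) F)) Subtype.val_injective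
    exact crit_of_equiv e (crit_psp (by omega))
  · obtain ⟨F, _, _, _, n, q, hF, hn, -, ⟨e⟩⟩ := h
    exact crit_of_equiv e (crit_psu hF (by omega))
  · obtain ⟨F, _, _, _, m, hm, hodd, ⟨e⟩⟩ := h
    refine crit_of_equiv e (crit_pomega (Q := quadOdd m F)
      (quadOdd_nondeg m fun h2 => ?_) (by simp; omega))
    obtain ⟨n, hp, hn⟩ := FiniteField.card F p
    have hdvd : p ∣ 2 := by rw [← CharP.cast_eq_zero_iff F p]; exact_mod_cast h2
    obtain rfl := (Nat.prime_dvd_prime_iff_eq hp Nat.prime_two).1 hdvd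
    rw [hn] at hodd
    exact Nat.not_odd_iff_even.2 ((Nat.even_pow' n.pos.ne').2 even_two) hodd
  · obtain ⟨F, _, _, _, m, hm, ⟨e⟩⟩ := h
    exact crit_of_equiv e (crit_pomega (Q := quadPlus m F) (quadPlus_nondeg m) (by simp; omega))
  · obtain ⟨F, _, _, _, m, a, b, hm, hab, ⟨e⟩⟩ := h
    exact crit_of_equiv e (crit_pomega (Q := quadMinus (m - 1) F a b) (quadMinus_nondeg (m - 1) hab)
      (by simp; omega))
  · obtain ⟨F, _, _, _, ⟨-, ⟨e⟩⟩ | ⟨⟨e⟩⟩ | ⟨⟨e⟩⟩ | ⟨⟨e⟩⟩ | ⟨⟨e⟩⟩⟩ := h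
    all_goals exact crit_of_equiv e (crit_chev (by simp))
  · obtain ⟨K, _, _, _, q, hq, ⟨hK, ⟨e⟩⟩ | ⟨hK, ⟨e⟩⟩⟩ := h
    · exact crit_of_equiv e (crit_twistedE6 hq hK)
    · exact crit_of_equiv e (crit_twistedD4 hq hK)
  · exact crit_suzuki h
  · obtain ⟨K, _, _, m, -, hK, ⟨e⟩⟩ := h
    exact crit_of_equiv e (crit_twistedF4 hK)
  · exact crit_ree h

end Cfsg.Agent.DefectChar
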