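import Cfsg.Agent.Lib.DefectChar.RGDBasic

/-!
# Tame intersections in groups with root group data

* `Tame` : conjugation-closed families of self-centralised intersections `U ⊓ x U x⁻¹`;
* `exists_normal` : a member in `U` is conjugate in `U` to a standard inversion span;
* `trivial_or_full` : for connected data the members in `U` are `⊥` and `U`;
* `crit_rgd` : the criterion for the group of the data.
-/

set_option autoImplicit false
set_option linter.unusedSectionVars false

namespace Cfsg.Agent.DefectChar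

open Cfsg.Agent.RGD Cfsg.Agent.RGD.RootData
open Cfsg.Agent.ChevBlocks (Psi U_le_span_psi span_psi_le_Upos conj_span_psi mem_span_psi)

variable {Γ : Type*} [Group Γ] {Φ I : Type*} (R : RootData Γ Φ I)

/-- Conjugation-closed families of tame self-centralised intersections. -/
structure Tame (Def : Subgroup Γ → Prop) : Prop where
  conj : ∀ E, Def E → ∀ g ∈ R.G, Def (E.map (MulAut.conj g).toMonoidHom)
  inter : ∀ E, Def E → E ≤ R.Upos → ∃ x ∈ R.G, (∀ z ∈ E, x * z = z * x) ∧
    ∀ z, z ∈ E ↔ z ∈ R.Upos ∧ x⁻¹ * z * x ∈ R.Upos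

/-- No proper set of fundamental roots is fixed by the other fundamental reflections. -/
def Conn : Prop :=
  ∀ J : Set I, (∃ j, j ∈ J) → (∃ k, k ∉ J) → ∃ j ∈ J, ∃ k, k ∉ J ∧ R.w k (R.simple j) ≠ R.simple j

variable {l₀ : List I} (hl₀ : ∀ r, R.pos r → ¬ R.pos (R.ww l₀ r)) {Def : Subgroup Γ → Prop} (hT : Tame R Def)

include hl₀ hT

/-- A member in `U` is conjugate in `U` to the span of a standard inversion set. -/
theorem exists_normal [Finite Φ] {E : Subgroup Γ} (hE : Def E) (hEU : E ≤ R.Upos) :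
    ∃ a ∈ R.Upos, ∃ l, E = (R.span (Psi R l)).map (MulAut.conj a).toMonoidHom ∧
      (∀ j, R.simple j ∈ Psi R l → R.ww l (R.simple j) = R.simple j) := by
  obtain ⟨x, hx, hcent, hmem⟩ := hT.inter E hE hEU
  obtain ⟨c, hc, l', u, hu, rfl⟩ := R.exists_normalForm hx
  obtain ⟨a, ha, h₁, hh₁, rfl⟩ := R.exists_B hc
  obtain ⟨k, hk, ek⟩ := R.exists_nw_inv l'
  set n := R.nw l'.reverse with hndef
  have hn : R.nw l' = n⁻¹ * k⁻¹ := by rw [← inv_inv (R.nw l'), ek, mul_inv_rev]
  set h := n * h₁ * n⁻¹ * k⁻¹ with hh'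
  have hh : h ∈ R.H := mul_mem (R.nw_conj_H _ hh₁) (inv_mem hk)
  have hx' : a * h₁ * R.nw l' * u = a * n⁻¹ * h * u := by rw [hn, hh']; group
  have hu' : u ∈ R.Upos := R.Uminus_le_Upos _ hu
  rw [hx'] at hcent hmem
  have hz : ∀ z, z ∈ E ↔ a⁻¹ * z * a ∈ R.span (Psi R l'.reverse) := by
    intro z
    rw [hmem z]
    constructor
    · rintro ⟨h1, h2⟩
      refine mem_span_psi R hl₀ (mul_mem (mul_mem (inv_mem ha) h1) ha) ?_
      have h3 := mul_mem (mul_mem hu' h2) (inv_mem hu')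
      have h4 : h * (u * ((a * n⁻¹ * h * u)⁻¹ * z * (a * n⁻¹ * h * u)) * u⁻¹) * h⁻¹ ∈ R.Upos :=
        R.H_conj_span _ hh _ h3
      rw [← hndef]
      convert h4 using 1
      group
    · intro h1
      refine ⟨?_, ?_⟩
      · have := mul_mem (mul_mem ha (span_psi_le_Upos R _ h1)) (inv_mem ha)
        convert this using 1
        group
      · have h4 := R.H_conj_span _ (inv_mem hh) _ (conj_span_psi R _ _ h1)
        rw [← hndef] at h4
        have h5 := mul_mem (mul_mem (inv_mem hu') h4) hu'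
        convert h5 using 1
        group
  refine ⟨a, ha, l'.reverse, ?_, fun j hj => ?_⟩
  · ext z
    rw [hz, RootData.mem_map_conj]
  set l := l'.reverse
  have hua : u * a ∈ R.Upos := mul_mem hu' ha
  -- the centralising element acts on the span as conjugation by `u * a`
  have hy : ∀ v ∈ R.span (Psi R l), (u * a) * v * (u * a)⁻¹ = h⁻¹ * (n * v * n⁻¹) * h := by
    intro v hv
    have he := hcent (a * v * a⁻¹) ((hz _).2 (by rwa [show a⁻¹ * (a * v * a⁻¹) * a = v by group]))
    calc (u * a) * v * (u * a)⁻¹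
        = h⁻¹ * n * a⁻¹ * (a * n⁻¹ * h * u * (a * v * a⁻¹)) * u⁻¹ := by group
      _ = _ := by rw [he]; group
  have himg : ∀ β ∈ Psi R l, ∀ y ∈ R.U (R.ww l β), ∃ v ∈ R.U β, (u * a) * v * (u * a)⁻¹ = y := by
    intro β hβ y hy'
    have h1 : h * y * h⁻¹ ∈ (R.U β).map (MulAut.conj n).toMonoidHom := by
      rw [hndef, R.map_conj_U]; exact R.H_conj_U h hh _ y hy'
    rw [RootData.mem_map_conj] at h1
    exact ⟨_, h1, by rw [hy _ (U_le_span_psi R hβ h1)]; group⟩
  obtain ⟨β, hβ, hβj⟩ : ∃ β ∈ Psi R l, R.ww l β = R.simple j := by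
    by_contra hno
    push Not at hno
    refine (R.span_le_Udel_iff (A := Psi R l) (fun r hr => hr.1) j).1 (R.span_le fun q hq v hv => ?_) hj
    have h1 : h⁻¹ * (n * v * n⁻¹) * h ∈ R.Udel j :=
      R.U_le_span (A := {s | R.pos s ∧ s ≠ R.simple j}) ⟨hq.2, hno q hq⟩ (R.conj_H_U' hh (R.conj_U_mem (R.map_conj_U l q) hv))
    rw [← hy v (U_le_span_psi R hq hv)] at h1
    have h2 := R.conj_Udel_mem (inv_mem hua) j h1
    convert h2 using 1
    group
  by_contra hne
  have hβne : β ≠ R.simple j := fun e => hne (by rwa [e] at hβj)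
  refine R.U_ne_bot (R.simple j) (eq_bot_iff.2 ?_)
  rw [← R.U_simple_inf_Udel j]
  refine le_inf le_rfl fun y hy' => ?_
  obtain ⟨v, hv, rfl⟩ := himg β hβ y (by rwa [hβj])
  exact R.conj_Udel_mem hua j (R.U_le_span (A := {s | R.pos s ∧ s ≠ R.simple j}) ⟨hβ.1, hβne⟩ hv)

/-- For connected data the members in `U` are trivial or `U`. -/
theorem trivial_or_full [Finite Φ] [Finite Γ] (hC : Conn R) {E : Subgroup Γ} (hE : Def E)
    (hEU : E ≤ R.Upos) : E = ⊥ ∨ R.Upos ≤ E := by
  obtain ⟨a, ha, l, hEa, hfix⟩ := exists_normal R hl₀ hT hE hEU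
  obtain ⟨m, hmJ, hm⟩ := R.exists_inversion hl₀ hfix
  by_cases hnone : ∀ i, R.simple i ∉ Psi R l
  · left
    have hnil : m = [] := List.eq_nil_iff_forall_not_mem.2 fun i hi => hnone i (hmJ i hi)
    have h0 : R.span (Psi R l) = ⊥ := eq_bot_iff.2 (R.span_le fun q hq => by
      rw [hm, hnil] at hq
      exact absurd hq.1 hq.2)
    rw [hEa, h0, Subgroup.map_bot]
  push Not at hnone
  by_cases hall : ∀ i, R.simple i ∈ Psi R l
  · right
    intro z hz
    rw [hEa, RootData.mem_map_conj]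
    have hneg : ∀ i, ¬ R.pos (R.ww m (R.simple i)) := fun i =>
      ((Set.ext_iff.1 hm (R.simple i)).1 (hall i)).2
    refine R.span_mono (A := {s | R.pos s}) (fun q hq => ?_) (mul_mem (mul_mem (inv_mem ha) hz) ha)
    rw [hm]
    exact ⟨hq, R.all_neg hl₀ hneg hq⟩
  exfalso
  push Not at hall
  obtain ⟨j, hjΨ, K, hKΨ, hKj⟩ := hC {i | R.simple i ∈ Psi R l} hnone hall
  change R.simple j ∈ Psi R l at hjΨ
  change R.simple K ∉ Psi R l at hKΨ
  let V := R.span (Psi R l)
  have haG : a ∈ R.G := R.B_le_G (R.Upos_le_B ha)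
  have hV : Def V := by
    have h := hT.conj E hE a⁻¹ (inv_mem haG)
    rwa [hEa, ← RootData.map_conj_mul, inv_mul_cancel, RootData.map_conj_one] at h
  have hne : ∀ q ∈ Psi R l, q ≠ R.simple K := fun q hq e => hKΨ (e ▸ hq)
  have hpos : ∀ q ∈ Psi R l, R.pos (R.w K q) := fun q hq => R.w_pos K q hq.1 (hne q hq)
  let E' := V.map (MulAut.conj (R.n K)).toMonoidHom
  have hE'eq : E' = R.span (R.w K '' Psi R l) := by
    refine RootData.map_conj_eq _ ?_ ?_
    · exact R.span_conj fun q hq y hy => R.U_le_span (A := R.w K '' Psi R l) ⟨q, hq, rfl⟩ (R.n_conj_U K q y hy)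
    · intro y hy
      have h2 : ∀ z ∈ R.span (R.w K '' Psi R l), (R.n K)⁻¹ * z * ((R.n K)⁻¹)⁻¹ ∈ V := by
        refine R.span_conj ?_
        rintro _ ⟨q, hq, rfl⟩ z hz
        have h3 := R.map_conj_n K q
        rw [← h3, RootData.mem_map_conj] at hz
        rw [inv_inv]
        exact R.U_le_span hq hz
      simpa using h2 y hy
  have hE'U : E' ≤ R.Upos := by
    rw [hE'eq]
    exact R.span_mono (A' := {s | R.pos s}) fun _ ⟨q, hq, e⟩ => e ▸ hpos q hq
  obtain ⟨a', ha', l', hEa', hfix'⟩ := exists_normal R hl₀ hT (hT.conj V hV _ (R.n_mem_G K)) hE'U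
  obtain ⟨m', hmJ', hm'⟩ := R.exists_inversion hl₀ hfix'
  -- the fundamental roots of the conjugate
  have hsimple : ∀ i, R.simple i ∈ Psi R l' → R.simple i ∈ R.w K '' Psi R l := by
    intro i hi
    by_contra hno
    refine (R.span_le_Udel_iff (A := Psi R l') (fun r hr => hr.1) i).1 (fun z hz => ?_) hi
    have h1 : a' * z * a'⁻¹ ∈ R.span (R.w K '' Psi R l) := hE'eq ▸ hEa'.ge ⟨z, hz, rfl⟩
    have h2 := R.conj_Udel_mem (inv_mem ha') i ((R.span_le_Udel_iff
      (A := R.w K '' Psi R l) (fun _ ⟨q, hq, e⟩ => e ▸ hpos q hq) i).2 hno h1)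
    convert h2 using 1
    group
  have hJ : ∀ i, R.simple i ∈ Psi R l' → R.simple i ∈ Psi R l ∧ R.w K (R.simple i) = R.simple i := by
    intro i hi
    obtain ⟨β, hβ, hβi⟩ := hsimple i hi
    rw [hm] at hβ
    obtain ⟨v, t, u, e, hu⟩ := R.crossing m hβ.1 hβ.2
    have htJ := hmJ t (by rw [e]; simp)
    let y : List I := u.reverse ++ t :: u
    have hyJ : ∀ k ∈ y, R.ww l (R.simple k) = R.simple k := by
      intro k hk
      refine hfix k (hmJ k ?_)
      simp only [y, List.mem_append, List.mem_reverse, List.mem_cons] at hk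
      rw [e]; simp only [List.mem_append, List.mem_cons]; tauto
    have hy : ∀ r, R.ww y r = R.w K (R.w i (R.w K r)) := by
      intro r
      have h1 := R.conj_w hl₀ (u := K :: u.reverse) (i := i) (j := t) (by
        rw [R.ww_cons, ← hu, R.ww_reverse_ww, hβi]) (R.ww u r)
      simp only [R.ww_cons, R.ww_reverse_ww] at h1
      simp only [y, R.ww_append, R.ww_cons]
      rw [← h1, R.w_w]
    have hyK : R.pos (R.ww y (R.simple K)) := by
      by_contra hn
      exact hKΨ ⟨R.pos_simple K, by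
        rw [R.fixed_of_inversion hl₀ hyJ (R.pos_simple K) hn]; exact R.pos_simple K⟩
    rw [hy, R.w_simple, R.w_neg, R.w_neg, R.pos_neg] at hyK
    have hiK : i ≠ K := by
      rintro rfl
      have h2 := congrArg (R.w i) hβi
      rw [R.w_w, R.w_simple] at h2
      exact (R.pos_neg _).1 (h2 ▸ hβ.1) (R.pos_simple i)
    have hpi : R.pos (R.w i (R.simple K)) :=
      R.w_pos i _ (R.pos_simple K) fun e' => hiK (R.simple_inj e').symm
    have h3 : R.w i (R.simple K) = R.simple K := by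
      by_contra hc
      exact hyK (R.w_pos K _ hpi hc)
    have hcomm : ∀ r, R.w i (R.w K r) = R.w K (R.w i r) := fun r => by
      simpa using R.conj_w hl₀ (u := [i]) (i := K) (j := K) (by simpa using h3) r
    have hyi : ∀ r, R.ww y r = R.w i r := fun r => by rw [hy, hcomm, R.w_w]
    refine ⟨⟨R.pos_simple i, ?_⟩, ?_⟩
    · rw [R.fixed_of_inversion hl₀ hyJ (R.pos_simple i)]
      · exact R.pos_simple i
      · rw [hyi, R.w_simple, R.pos_neg]; exact not_not.2 (R.pos_simple i)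
    · have hp := R.w_pos K _ (R.pos_simple i) fun e' => hiK (R.simple_inj e')
      by_contra hc
      have h4 := R.w_pos i _ hp hc
      rw [hcomm, R.w_simple, R.w_neg, R.pos_neg] at h4
      exact h4 hp
  have hsub : Psi R l' ⊆ Psi R l := by
    intro r hr
    rw [hm'] at hr
    refine ⟨hr.1, ?_⟩
    rw [R.fixed_of_inversion hl₀ (fun i hi => hfix i (hJ i (hmJ' i hi)).1) hr.1 hr.2]
    exact hr.1
  have hlt : R.span (Psi R l') < V := by
    refine lt_of_le_of_ne (R.span_mono hsub) fun e => ?_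
    have h1 : R.span (Psi R l') ≤ R.Udel j :=
      (R.span_le_Udel_iff (fun r hr => hr.1) j).2 fun h => hKj (hJ j h).2
    exact (R.span_le_Udel_iff (A := Psi R l) (fun r hr => hr.1) j).1 (by rw [e] at h1; exact h1) hjΨ
  have hcard : Nat.card ↥(R.span (Psi R l')) = Nat.card ↥V := by
    rw [← Subgroup.card_map_of_injective (K := R.span (Psi R l')) (f := (MulAut.conj a').toMonoidHom)
      (MulAut.conj a').injective, ← hEa']
    exact Subgroup.card_map_of_injective (MulAut.conj (R.n K)).injective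
  exact hlt.ne (Subgroup.eq_of_le_of_card_ge hlt.le hcard.ge)

omit hT in
/-- The criterion for the group of connected root group data with `U` a Sylow subgroup. -/
theorem crit_rgd [Finite Φ] [Finite Γ] {p : ℕ} [Fact p.Prime] (hC : Conn R)
    (hUp : IsPGroup p ↥R.Upos) (hUi : ¬ p ∣ (R.Upos.subgroupOf R.G).index) : Crit p ↥R.G := by
  intro Def hF D hD
  refine or_iff_not_imp_left.2 fun hne => ?_
  have hUG : R.Upos ≤ R.G := R.Upos_le_B.trans R.B_le_G
  have hU' : IsPGroup p ↥(R.Upos.subgroupOf R.G) := hUp.of_equiv (Subgroup.subgroupOfEquivOfLe hUG).symm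
  let S : Sylow p ↥R.G := hU'.toSylow hUi
  obtain ⟨Q, hQ⟩ := (hF.isP D hD).exists_le_sylow
  obtain ⟨g, hg⟩ := MulAction.exists_smul_eq ↥R.G Q S
  set D' := Blocks.conjSub g D
  have hD' : Def D' := hF.conj D hD g
  let Def' : Subgroup Γ → Prop := fun E => ∃ E₀ : Subgroup ↥R.G, Def E₀ ∧ E = E₀.map R.G.subtype
  have hT : Tame R Def' := by
    refine ⟨?_, ?_⟩
    · rintro _ ⟨E₀, hE₀, rfl⟩ c hc
      refine ⟨Blocks.conjSub ⟨c, hc⟩ E₀, hF.conj _ hE₀ _, ?_⟩
      rw [Blocks.conjSub, Subgroup.map_map, Subgroup.map_map]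
      rfl
    · rintro _ ⟨E₀, hE₀, rfl⟩ hle
      obtain ⟨x, -, hxD, hmem⟩ := hF.inter E₀ hE₀ S fun z hz => hle ⟨z, hz, rfl⟩
      refine ⟨x, x.2, ?_, fun z => ⟨?_, ?_⟩⟩
      · rintro _ ⟨z, hz, rfl⟩
        exact congrArg Subtype.val (hxD z hz)
      · rintro ⟨z, hz, rfl⟩
        exact (hmem z).1 hz
      · rintro ⟨h1, h2⟩
        exact ⟨⟨z, hUG h1⟩, (hmem _).2 ⟨h1, h2⟩, rfl⟩
  have hle : D' ≤ (S : Subgroup ↥R.G) := by
    rintro _ ⟨z, hz, rfl⟩
    rw [← hg, Sylow.coe_subgroup_smul]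
    exact Subgroup.smul_mem_pointwise_smul z _ _ (hQ hz)
  rcases trivial_or_full R hl₀ hT hC (E := D'.map R.G.subtype) ⟨D', hD', rfl⟩
      (by rintro _ ⟨z, hz, rfl⟩; exact hle hz) with h | h
  · refine absurd ?_ hne
    rwa [Subgroup.map_eq_bot_iff_of_injective _ R.G.subtype_injective,
      Subgroup.map_eq_bot_iff_of_injective _ (MulAut.conj g).injective] at h
  · have e : D' = (S : Subgroup ↥R.G) := le_antisymm hle fun z hz => by
      obtain ⟨w, hw, e⟩ := h hz
      rwa [← Subtype.ext e]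
    rw [← Blocks.card_conjSub g D, show Blocks.conjSub g D = (S : Subgroup ↥R.G) from e]
    exact S.card_eq_multiplicity

end Cfsg.Agent.DefectChar
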