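import Cfsg.Agent.Lib.DefectChar.Abstract
import Cfsg.Agent.Lib.ChevBlocks.Shape
import Cfsg.Agent.Lib.ChevBN.WeaklyClosed

/-!
# Root group data with a longest word

* `U_inj`, `ww_congr` : a root subgroup determines its root;
* `conj_w` : transport of fundamental reflections;
* `all_neg` : a word negating all fundamental roots negates all positive roots;
* `exists_inversion` : a tame word fixing its kept fundamental roots keeps exactly a standard inversion set.
-/

set_option autoImplicit false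
set_option linter.unusedSectionVars false

namespace Cfsg.Agent.RGD.RootData

open Cfsg.Agent.ChevBlocks (Psi)

variable {Γ : Type*} [Group Γ] {Φ I : Type*} (R : RootData Γ Φ I)

lemma U_simple_inf_Udel (i : I) : R.U (R.simple i) ⊓ R.Udel i = ⊥ := by
  refine eq_bot_iff.2 fun x hx => ?_
  obtain ⟨h1, h2⟩ := Subgroup.mem_inf.1 hx
  have h3 : R.n i * x * (R.n i)⁻¹ ∈ R.B ⊓ R.Vneg :=
    Subgroup.mem_inf.2 ⟨R.Udel_le_B i (R.n_conj_Udel i x h2),
      R.U_le_Vneg (by rw [R.pos_neg]; exact not_not.2 (R.pos_simple i)) (R.conj_n_simple h1)⟩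
  rw [show R.B ⊓ R.Vneg = ⊥ from R.B_inf_V, Subgroup.mem_bot, conj_eq_one_iff] at h3
  rw [h3]
  exact one_mem _

lemma span_le_Udel_iff {A : Set Φ} (hA : ∀ r ∈ A, R.pos r) (i : I) :
    R.span A ≤ R.Udel i ↔ R.simple i ∉ A := by
  refine ⟨fun h hi => R.U_ne_bot (R.simple i) (eq_bot_iff.2 ?_), fun h => R.span_mono fun r hr =>
    ⟨hA r hr, fun e => h (e ▸ hr)⟩⟩
  rw [← R.U_simple_inf_Udel i]
  exact le_inf le_rfl ((R.U_le_span hi).trans h)

lemma conj_Udel_mem {c : Γ} (hc : c ∈ R.Upos) (i : I) {z : Γ} (hz : z ∈ R.Udel i) :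
    c * z * c⁻¹ ∈ R.Udel i := by
  obtain ⟨k, hk, a, ha, rfl⟩ := R.exists_Upos (i := i) hc
  rw [show k * a * z * (k * a)⁻¹ = k * (a * z * a⁻¹) * k⁻¹ by group]
  exact mul_mem (mul_mem hk (R.U_conj_Udel i ha z hz)) (inv_mem hk)

/-- A word keeping the fundamental roots positive lies in `H`. -/
lemma mem_H_of_simple {l : List I} (h : ∀ j, R.pos (R.ww l (R.simple j))) : R.nw l ∈ R.H := by
  induction hn : l.length using Nat.strong_induction_on generalizing l with
  | _ q ih =>
    rcases List.eq_nil_or_concat' l with rfl | ⟨l, j, rfl⟩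
    · exact one_mem _
    have h1 := h j
    rw [R.ww_append, R.ww_cons, R.ww_nil, R.w_simple, R.ww_neg, R.pos_neg] at h1
    obtain ⟨l', hlen, k, hk, e⟩ := R.exists_shorter h1
    rw [e]
    exact mul_mem hk (ih l'.length (by subst hn; simp; omega)
      (fun r => (R.pos_ww_congr hk e (R.simple r)).1 (h r)) rfl)

variable {l₀ : List I} (hl₀ : ∀ r, R.pos r → ¬ R.pos (R.ww l₀ r))

include hl₀

lemma pos_ww_long {r : Φ} (hr : ¬ R.pos r) : R.pos (R.ww l₀ r) := by
  have h := hl₀ _ ((R.pos_neg r).2 hr)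
  rwa [R.ww_neg, R.pos_neg, not_not] at h

lemma U_inj {r s : Φ} (h : R.U r = R.U s) : r = s := by
  have key : ∀ r s, R.pos r → R.U r = R.U s → r = s := by
    intro r s hr h
    have hs : R.pos s := (R.U_le_B_iff s).1 (h ▸ (R.U_le_B_iff r).2 hr)
    obtain ⟨-, i, u, -, hu⟩ := R.crossing l₀ hr (hl₀ r hr)
    have h1 : R.U (R.ww u s) = R.U (R.simple i) := by rw [← hu, ← R.map_conj_U, ← R.map_conj_U, h]
    have hp : R.pos (R.ww u s) := (R.U_le_B_iff _).1 (h1 ▸ (R.U_le_B_iff _).2 (R.pos_simple i))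
    have h2 : R.ww u s = R.simple i := by
      by_contra hne
      refine R.U_ne_bot (R.simple i) (eq_bot_iff.2 ?_)
      rw [← R.U_simple_inf_Udel i]
      exact le_inf le_rfl (h1 ▸ R.U_le_span ⟨hp, hne⟩)
    rw [← R.ww_reverse_ww u r, ← R.ww_reverse_ww u s, h2, hu]
  by_cases hr : R.pos r
  · exact key r s hr h
  · have h1 : R.U (R.ww l₀ r) = R.U (R.ww l₀ s) := by rw [← R.map_conj_U, ← R.map_conj_U, h]
    have h2 := key _ _ (R.pos_ww_long hl₀ hr) h1
    rw [← R.ww_reverse_ww l₀ r, h2, R.ww_reverse_ww]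

lemma ww_congr {l l' : List I} {h : Γ} (hh : h ∈ R.H) (e : R.nw l = h * R.nw l') (r : Φ) :
    R.ww l r = R.ww l' r :=
  R.U_inj hl₀ (by rw [← R.map_conj_U l r, e, R.map_conj_H_nw hh l' r])

lemma conj_w {u : List I} {i j : I} (hu : R.ww u (R.simple j) = R.simple i) (r : Φ) :
    R.ww u (R.w j r) = R.w i (R.ww u r) := by
  obtain ⟨h, hh, e⟩ := R.conj_n_mem hu
  have h1 := R.ww_congr hl₀ (l := u ++ [j]) (l' := i :: u) hh (by simp [e, mul_assoc]) r
  simpa using h1

/-- A word fixing the fundamental roots of another commutes with it. -/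
lemma ww_comm {l u : List I} (h : ∀ i ∈ u, R.ww l (R.simple i) = R.simple i) (r : Φ) :
    R.ww l (R.ww u r) = R.ww u (R.ww l r) := by
  induction u with
  | nil => rfl
  | cons i u ih =>
    rw [R.ww_cons, R.ww_cons, R.conj_w hl₀ (h i (by simp)), ih fun j hj => h j (by simp [hj])]

/-- A word negating the fundamental roots negates all positive roots. -/
lemma all_neg {l : List I} (h : ∀ j, ¬ R.pos (R.ww l (R.simple j))) {r : Φ} (hr : R.pos r) :
    ¬ R.pos (R.ww l r) := fun hp => by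
  have hc : R.nw (l₀ ++ l) ∈ R.H := R.mem_H_of_simple fun j => by
    rw [R.ww_append]; exact R.pos_ww_long hl₀ (h j)
  have h1 := (R.mem_H_iff _).1 hc r hr
  rw [R.ww_append] at h1
  exact hl₀ _ hp h1

/-- The roots negated by a word in fixed fundamental reflections are fixed. -/
lemma fixed_of_inversion {l m : List I} (h : ∀ i ∈ m, R.ww l (R.simple i) = R.simple i) {r : Φ}
    (hr : R.pos r) (hm : ¬ R.pos (R.ww m r)) : R.ww l r = r := by
  obtain ⟨q, i, u, e, hu⟩ := R.crossing m hr hm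
  have hmem : ∀ j ∈ u.reverse, R.ww l (R.simple j) = R.simple j := fun j hj =>
    h j (by rw [e]; simp [List.mem_reverse.1 hj])
  rw [← R.ww_reverse_ww u r, hu, R.ww_comm hl₀ hmem, h i (by rw [e]; simp)]

/-- The word negates the fundamental roots it does not fix: its kept roots form a standard inversion set. -/
lemma exists_inversion [Finite Φ] {l : List I}
    (h : ∀ j, R.simple j ∈ Psi R l → R.ww l (R.simple j) = R.simple j) :
    ∃ m : List I, (∀ i ∈ m, R.simple i ∈ Psi R l) ∧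
      Psi R l = {r | R.pos r ∧ ¬ R.pos (R.ww m r)} := by
  obtain ⟨m, hmJ, hm⟩ := R.exists_long_on {j | R.simple j ∈ Psi R l}
  have hfix : ∀ i ∈ m, R.ww l (R.simple i) = R.simple i := fun i hi => h i (hmJ i hi)
  refine ⟨m, hmJ, Set.ext fun r => ⟨fun hr => ⟨hr.1, fun hp => ?_⟩, fun ⟨hr, hn⟩ =>
    ⟨hr, by rw [R.fixed_of_inversion hl₀ hfix hr hn]; exact hr⟩⟩⟩
  -- the composite word negates everything
  have hneg : ∀ j, ¬ R.pos (R.ww (l ++ m) (R.simple j)) := by
    intro j hj
    rw [R.ww_append] at hj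
    by_cases hjJ : R.simple j ∈ Psi R l
    · rw [R.ww_comm hl₀ hfix, h j hjJ] at hj
      exact hm j hjJ hj
    rw [R.ww_comm hl₀ hfix] at hj
    set q := R.ww l (R.simple j) with hq
    have hqn : ¬ R.pos q := fun hp => hjJ ⟨R.pos_simple j, hp⟩
    obtain ⟨v, i, u, e, hu⟩ := R.crossing m ((R.pos_neg q).2 hqn) (by rw [R.ww_neg, R.pos_neg]; exact not_not.2 hj)
    have h1 : R.ww l (R.ww u (R.simple j)) = R.neg (R.simple i) := by
      rw [R.ww_comm hl₀ (fun k hk => hfix k (by rw [e]; simp [hk])), ← hq, ← hu, R.ww_neg, R.neg_neg]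
    have h2 : R.ww u (R.simple j) = R.neg (R.simple i) := by
      rw [← R.ww_reverse_ww l (R.ww u (R.simple j)), h1]
      conv_lhs => rw [← hfix i (by rw [e]; simp), ← R.ww_neg, R.ww_reverse_ww]
    have h3 : R.ww l (R.simple j) = R.simple j := by
      conv_lhs => rw [← R.ww_reverse_ww u (R.simple j)]
      rw [R.ww_comm hl₀ (fun k hk => hfix k (by rw [e]; simp [List.mem_reverse.1 hk])), h2, R.ww_neg l,
        hfix i (by rw [e]; simp), ← h2, R.ww_reverse_ww]
    exact hjJ ⟨R.pos_simple j, by rw [h3]; exact R.pos_simple j⟩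
  have hneg' := R.all_neg hl₀ hneg hr.1
  rw [R.ww_append, R.ww_comm hl₀ hfix] at hneg'
  -- so `ww l r` is negated by `m`, hence fixed
  have h1 := R.fixed_of_inversion hl₀ hfix hr.2 hneg'
  have h2 : R.ww l r = r := by
    rw [← R.ww_reverse_ww l (R.ww l r)]
    conv_lhs => rw [h1, R.ww_reverse_ww]
  rw [h2] at hneg'
  exact hneg' hp

end Cfsg.Agent.RGD.RootData
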